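import Cfsg.Agent.TwoWeak.Embedded
import Cfsg.Agent.S0448

/-!
An involution `t`, central in a Sylow 2-subgroup, with weak closure `2 × A₅` in its centraliser:
the normal closure of `t` is `J₁`.
-/

set_option autoImplicit false

universe u

namespace Cfsg.Agent.TwoWeak

open Subgroup
open Cfsg.Agent.J1Unique

theorem below : ∀ n : ℕ, Below.{u} n := by
  intro n
  induction n with
  | zero => intro G _ _ t h; exact absurd h (Nat.not_lt_zero _)
  | succ n ih =>
    intro G _ _ t hlt h htop
    have IH : Below.{u} (Nat.card G) := fun H _ _ x hx =>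
      ih H x (lt_of_lt_of_le hx (Nat.lt_succ_iff.1 hlt))
    haveI : Fact (Nat.Prime 2) := ⟨Nat.prime_two⟩
    set O := Cfsg.pPrimeCore 2 G with hO
    have hOb : O = ⊥ := by
      by_contra hne
      obtain ⟨hq, hqtop⟩ := quotient_step htop h
      refine hne (core_eq_bot_of_card htop h (IH _ _ ?_ hq hqtop).2.1)
      show O.index < Nat.card G
      rw [← O.card_mul_index]
      exact lt_mul_of_one_lt_left (Nat.pos_of_ne_zero index_ne_zero_of_finite)
        ((one_lt_card_iff_ne_bot O).2 hne)
    haveI hs : IsSimpleGroup G := isSimple_of_core htop h hOb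
    obtain ⟨S, ⟨C⟩⟩ := exists_coord h
    obtain ⟨K, hKC, hKV, hKn, hKW, -, hdec⟩ := centralizer_eq htop C
    have hK := no_odd_factor IH h C (C.sylow_eq htop) hKC hKV hKn hKW hdec
    have hC : centralizer ({t} : Set G) = wcl t := by
      refine le_antisymm (fun c hc => ?_) (wcl_le_centralizer t)
      obtain ⟨w, hw, k, hk, rfl⟩ := hdec c (mem_centralizer_singleton_iff.1 hc)
      rw [hK, mem_bot] at hk
      rw [hk, mul_one]
      exact hw
    obtain ⟨e⟩ := h.iso
    exact ⟨hs, (S0448.result t ⟨h.ord, S, C.memS, C.le⟩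
      ((MulEquiv.subgroupCongr hC).trans e)).2, hC⟩

theorem isoJ1_normalClosure {G : Type u} [Group G] [Finite G] {t : G} (h : Hyp t) :
    Cfsg.Spor.IsoJ1 ↥(normalClosure ({t} : Set G)) := by
  obtain ⟨t', -, ht', htop, -⟩ := reduce h
  exact isoJ1_of_concl ht' (below _ _ t' (Nat.lt_succ_self _) ht' htop)

end Cfsg.Agent.TwoWeak
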