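import Cfsg.Prelude
import Cfsg.Agent.TwoWeak.AFive
import Cfsg.Agent.ProdFusion.Product

/-!
An involution `t`, central in a Sylow 2-subgroup, whose weak closure in its centraliser is
`2 × A₅`: coordinates on the weak closure.
-/

set_option autoImplicit false

namespace Cfsg.Agent.TwoWeak

open Subgroup
open Cfsg.Agent.J1Unique

variable {G : Type*} [Group G]

/-- The weak closure of `t` in its centraliser. -/
def wcl (t : G) : Subgroup G := closure {x : G | ∃ g : G, x = g * t * g⁻¹ ∧ x * t = t * x}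

theorem conj_mem_wcl {t g : G} (h : g * t * g⁻¹ * t = t * (g * t * g⁻¹)) :
    g * t * g⁻¹ ∈ wcl t :=
  subset_closure ⟨g, rfl, h⟩

theorem self_mem_wcl (t : G) : t ∈ wcl t := subset_closure ⟨1, by group, rfl⟩

theorem wcl_le_centralizer (t : G) : wcl t ≤ centralizer ({t} : Set G) := by
  rw [wcl, closure_le]
  rintro x ⟨g, -, hx⟩
  exact mem_centralizer_singleton_iff.2 hx

theorem conj_wcl_of_commute {t c x : G} (hc : c * t = t * c) (hx : x ∈ wcl t) :
    c * x * c⁻¹ ∈ wcl t := by
  induction hx using closure_induction with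
  | mem x hx =>
    obtain ⟨g, rfl, hg⟩ := hx
    refine subset_closure ⟨c * g, by group, ?_⟩
    have h1 : c⁻¹ * t = t * c⁻¹ := (show Commute c t from hc).inv_left.eq
    calc c * (g * t * g⁻¹) * c⁻¹ * t = c * (g * t * g⁻¹ * t) * c⁻¹ := by
          simp only [mul_assoc, h1]
      _ = c * (t * (g * t * g⁻¹)) * c⁻¹ := by rw [hg]
      _ = (c * t) * (g * t * g⁻¹) * c⁻¹ := by group
      _ = t * (c * (g * t * g⁻¹) * c⁻¹) := by rw [hc]; group
  | one => simp [one_mem]
  | mul x y _ _ ix iy =>
    have e : c * (x * y) * c⁻¹ = (c * x * c⁻¹) * (c * y * c⁻¹) := by group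
    rw [e]; exact mul_mem ix iy
  | inv x _ ix =>
    have e : c * x⁻¹ * c⁻¹ = (c * x * c⁻¹)⁻¹ := by group
    rw [e]; exact inv_mem ix

theorem one_ne_z : ((1 : Multiplicative (ZMod 2))) ≠ Multiplicative.ofAdd 1 := by decide

theorem z_cases : ∀ b : Multiplicative (ZMod 2), b = 1 ∨ b = Multiplicative.ofAdd 1 := by decide

/-- The hypothesis. -/
structure Hyp (t : G) : Prop where
  ord : orderOf t = 2
  central : ∃ S : Sylow 2 G, t ∈ (S : Subgroup G) ∧ ∀ s ∈ (S : Subgroup G), s * t = t * s
  iso : Nonempty (↥(wcl t) ≃* ZA)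

/-- Coordinates on the weak closure, adapted to a Sylow subgroup. -/
structure Coord (S : Sylow 2 G) (t : G) where
  ι : A5 →* G
  inj : Function.Injective ι
  tt : t * t = 1
  ne : ∀ a, ι a ≠ t
  comm : ∀ a, Commute t (ι a)
  le : ∀ s ∈ (S : Subgroup G), s * t = t * s
  memS : t ∈ (S : Subgroup G)
  mem_W : ∀ g, g ∈ wcl t ↔ ∃ a, g = ι a ∨ g = t * ι a
  four : ∀ a, ι a ∈ (S : Subgroup G) ↔ InV a

theorem exists_coord [Finite G] {t : G} (h : Hyp t) : ∃ S : Sylow 2 G, Nonempty (Coord S t) := by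
  classical
  haveI : Fact (Nat.Prime 2) := ⟨Nat.prime_two⟩
  obtain ⟨ht, ⟨S, htS, hSc⟩, ⟨e⟩⟩ := h
  have ht2 : t * t = 1 := by rw [← pow_two, ← ht, pow_orderOf_eq_one]
  have ht1 : t ≠ 1 := fun h => by rw [h, orderOf_one] at ht; exact absurd ht (by decide)
  set W := wcl t with hW
  let T : ↥W := ⟨t, self_mem_wcl t⟩
  have hWc : ∀ w ∈ W, w * t = t * w := fun w hw =>
    mem_centralizer_singleton_iff.1 (wcl_le_centralizer t hw)
  have hT : e T = (Multiplicative.ofAdd 1, 1) := by
    refine za_center _ (fun a => ?_) ?_ ?_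
    · have h : e T * e (e.symm (1, a)) = e (e.symm (1, a)) * e T := by
        rw [← map_mul, ← map_mul]
        exact congrArg e (Subtype.ext (hWc _ (e.symm (1, a)).2).symm)
      rw [e.apply_symm_apply] at h
      exact congrArg Prod.snd h
    · rw [← map_mul, show T * T = 1 from Subtype.ext ht2, map_one]
    · rw [Ne, EmbeddingLike.map_eq_one_iff]
      exact fun h => ht1 (congrArg Subtype.val h)
  let ι₀ : A5 →* G := W.subtype.comp (e.symm.toMonoidHom.comp (MonoidHom.inr _ _))
  have hι : ∀ a, ι₀ a = ((e.symm (1, a) : ↥W) : G) := fun a => rfl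
  have hinj : Function.Injective ι₀ := fun a b h => congrArg Prod.snd (e.symm.injective (Subtype.ext h))
  have hne : ∀ a, ι₀ a ≠ t := by
    intro a h
    have h1 : e.symm (1, a) = T := Subtype.ext h
    have := congrArg Prod.fst (e.symm.injective (h1.trans (e.symm_apply_apply T).symm))
    rw [hT] at this
    exact one_ne_z this
  have hcomm : ∀ a, Commute t (ι₀ a) := fun a => (hWc _ (e.symm (1, a)).2).symm
  have hmem : ∀ g, g ∈ W ↔ ∃ a, g = ι₀ a ∨ g = t * ι₀ a := by
    refine fun g => ⟨fun hg => ⟨(e ⟨g, hg⟩).2, ?_⟩, ?_⟩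
    · rcases z_cases (e ⟨g, hg⟩).1 with h | h
      · left
        rw [hι, show ((1 : Multiplicative (ZMod 2)), (e ⟨g, hg⟩).2) = e ⟨g, hg⟩ by rw [← h],
          e.symm_apply_apply]
      · right
        show g = ((T * e.symm (1, (e ⟨g, hg⟩).2) : ↥W) : G)
        rw [show T * e.symm (1, (e ⟨g, hg⟩).2) = ⟨g, hg⟩ from e.injective (by
          rw [map_mul, hT, e.apply_symm_apply, Prod.mk_mul_mk, mul_one, one_mul, ← h])]
    · rintro ⟨a, rfl | rfl⟩
      · exact (e.symm (1, a)).2
      · exact mul_mem (self_mem_wcl t) (e.symm (1, a)).2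
  -- the four group of `S`
  set F : Subgroup A5 := (S : Subgroup G).comap ι₀ with hF
  have hF2 : ∀ a ∈ F, a * a = 1 := by
    intro a ha
    obtain ⟨k, hk⟩ := S.isPGroup'.exists_card_eq
    obtain ⟨j, hj⟩ : ∃ j, orderOf a = 2 ^ j := by
      have h1 : orderOf (ι₀ a) ∣ 2 ^ k := by
        have := orderOf_dvd_natCard (⟨ι₀ a, ha⟩ : (S : Subgroup G))
        rw [hk, ← Subgroup.orderOf_coe] at this
        exact this
      rw [orderOf_injective ι₀ hinj] at h1
      obtain ⟨j, -, hj⟩ := (Nat.dvd_prime_pow Nat.prime_two).1 h1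
      exact ⟨j, hj⟩
    refine pow_eight_five a (orderOf_dvd_iff_pow_eq_one.1 ?_)
    have h60 : orderOf a ∣ 60 := by
      have := orderOf_dvd_natCard a
      rwa [show Nat.card A5 = 60 by rw [Nat.card_eq_fintype_card]; decide +kernel] at this
    rw [hj] at h60 ⊢
    rcases Nat.lt_or_ge j 3 with h | h
    · exact pow_dvd_pow 2 (by omega : j ≤ 3)
    · exact absurd ((pow_dvd_pow 2 h).trans h60) (by decide)
  have hF4 : 4 ≤ Nat.card F := by
    set C := centralizer ({t} : Set G) with hC
    have hSC : (S : Subgroup G) ≤ C := fun x hx => mem_centralizer_singleton_iff.2 (hSc x hx)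
    haveI : (W.subgroupOf C).Normal := ⟨fun x hx c => by
      rw [mem_subgroupOf] at hx ⊢
      exact conj_wcl_of_commute (mem_centralizer_singleton_iff.1 c.2) hx⟩
    have hodd := ProdFusion.odd_relIndex_of_normal (S.subtype hSC) (W.subgroupOf C)
    rw [show ((S.subtype hSC : Sylow 2 C) : Subgroup C) = (S : Subgroup G).subgroupOf C from rfl,
      relIndex_subgroupOf (wcl_le_centralizer t), ← inf_relIndex_right] at hodd
    have hcardW : Nat.card W = 120 := by
      rw [Nat.card_congr e.toEquiv, Nat.card_eq_fintype_card]; decide +kernel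
    set P := (S : Subgroup G) ⊓ W with hP
    have hmul : Nat.card P * P.relIndex W = 120 := by
      rw [← hcardW, ← relIndex_bot_left, ← relIndex_bot_left,
        relIndex_mul_relIndex _ _ _ bot_le inf_le_right]
    have h8 : 8 ∣ Nat.card P := by
      refine Nat.Coprime.dvd_of_dvd_mul_right (k := 8) (n := P.relIndex W) ?_ ?_
      · exact (Nat.coprime_two_left.2 hodd).pow_left 3
      · rw [hmul]; norm_num
    have hd : ∀ g : P, ∃ q : F × Bool, (g : G) = cond q.2 t 1 * ι₀ q.1 := by
      rintro ⟨g, hgS, hgW⟩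
      obtain ⟨a, h | h⟩ := (hmem g).1 hgW
      · exact ⟨(⟨a, by show ι₀ a ∈ (S : Subgroup G); exact h ▸ hgS⟩, false), by simp [h]⟩
      · refine ⟨(⟨a, ?_⟩, true), by simp [h]⟩
        show ι₀ a ∈ (S : Subgroup G)
        have e' : t⁻¹ * g = ι₀ a := by rw [h, inv_mul_cancel_left]
        exact e' ▸ mul_mem (inv_mem htS) hgS
    choose f hf using hd
    have := Nat.card_le_card_of_injective f fun g g' h => Subtype.ext (by rw [hf g, hf g', h])
    rw [Nat.card_prod, show Nat.card Bool = 2 by simp] at this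
    have := Nat.le_of_dvd Nat.card_pos h8
    omega
  obtain ⟨a, ha, ha1⟩ : ∃ a ∈ F, a ≠ 1 := by
    by_contra! hc
    have : F = ⊥ := (Subgroup.eq_bot_iff_forall _).2 hc
    rw [this, card_bot] at hF4
    omega
  obtain ⟨b, hb, hb1, hba⟩ : ∃ b ∈ F, b ≠ 1 ∧ b ≠ a := by
    by_contra! hc
    have hle : (F : Set A5) ⊆ {1, a} := fun x hx => by
      rcases eq_or_ne x 1 with h | h
      · exact Or.inl h
      · exact Or.inr (hc x hx h)
    have h1 := Set.ncard_le_ncard hle (Set.toFinite _)
    have h2 : (F : Set A5).ncard = Nat.card F := (Nat.card_coe_set_eq (F : Set A5)).symm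
    have h3 : ({1, a} : Set A5).ncard ≤ 2 := (Set.ncard_insert_le _ _).trans (by simp)
    omega
  obtain ⟨p, hp⟩ := exists_tw_inv a (hF2 a ha) ha1
  have hcommF : ∀ x ∈ F, ∀ y ∈ F, x * y = y * x := by
    intro x hx y hy
    have hxi : x⁻¹ = x := inv_eq_of_mul_eq_one_right (hF2 x hx)
    have hyi : y⁻¹ = y := inv_eq_of_mul_eq_one_right (hF2 y hy)
    have := inv_eq_of_mul_eq_one_right (hF2 (x * y) (mul_mem hx hy))
    rw [mul_inv_rev, hxi, hyi] at this
    exact this.symm
  have hinV : ∀ x ∈ F, InV (tw p x) := fun x hx => inV_of_commute _ (by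
    rw [← hp, ← map_mul, ← map_mul, hcommF x hx a ha])
  refine ⟨S, ⟨⟨ι₀.comp (tw p).symm.toMonoidHom, hinj.comp (tw p).symm.injective, ht2,
    fun a => hne _, fun a => hcomm _, hSc, htS, fun g => ?_, fun x => ?_⟩⟩⟩
  · rw [hmem g]
    constructor
    · rintro ⟨y, hy⟩
      exact ⟨tw p y, by simpa using hy⟩
    · rintro ⟨y, hy⟩
      exact ⟨(tw p).symm y, by simpa using hy⟩
  · constructor
    · intro hx
      have := hinV ((tw p).symm x) hx
      rwa [MulEquiv.apply_symm_apply] at this
    · intro hx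
      show (tw p).symm x ∈ F
      have hsR : (tw p).symm aR = a := by rw [← hp, MulEquiv.symm_apply_apply]
      have hb' := hinV b hb
      have hbR : tw p b ≠ aR := fun h => hba ((tw p).injective (h.trans hp.symm))
      have hb1' : tw p b ≠ 1 := fun h => hb1 ((tw p).injective (h.trans (map_one _).symm))
      have hS : (tw p).symm aS ∈ F := by
        rcases hb' with h | h | h | h
        · exact absurd h hb1'
        · exact absurd h hbR
        · rwa [← h, MulEquiv.symm_apply_apply]
        · have : (tw p).symm aS = a * b := by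
            apply (tw p).injective
            rw [MulEquiv.apply_symm_apply, map_mul, hp, h, inV_rels.2.2.2.1]
          rw [this]; exact mul_mem ha hb
      rcases hx with rfl | rfl | rfl | rfl
      · rw [map_one]; exact one_mem F
      · rw [hsR]; exact ha
      · exact hS
      · rw [map_mul, hsR]; exact mul_mem ha hS

end Cfsg.Agent.TwoWeak
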