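import Cfsg.Agent.TwoWeak.Fusion
import Cfsg.Agent.TwoWeak.Complement
import Cfsg.Agent.Signalizer.Generation
import Mathlib.GroupTheory.SpecificGroups.Alternating.Simple

/-!
The normal closure of `t`: it is perfect, has `V` as a Sylow 2-subgroup and inherits the hypothesis.
-/

set_option autoImplicit false

namespace Cfsg.Agent.TwoWeak

open Subgroup
open Cfsg.Agent.J1Unique
open scoped commutatorElement IsMulCommutative

variable {G : Type*} [Group G] [Finite G] {S : Sylow 2 G} {t : G}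

namespace Coord

variable (C : Coord S t)

include C

theorem complement : ∃ K : Subgroup G, K ≤ centralizer (Vg S t : Set G) ∧
    (∀ n ∈ normalizer (Vg S t : Set G), ∀ x ∈ K, n * x * n⁻¹ ∈ K) ∧ K ⊓ Vg S t = ⊥ ∧
    ∀ c ∈ centralizer (Vg S t : Set G), ∃ v ∈ Vg S t, ∃ k ∈ K, c = v * k :=
  exists_complement S (Vg S t) inf_le_left (fun _ hv => C.V_sq hv) C.le_centralizer_V
    C.sylow_normalizes C.squares_inf_V

theorem V_le_normalClosure : Vg S t ≤ normalClosure ({t} : Set G) := fun v hv => by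
  rcases eq_or_ne v 1 with rfl | hv1
  · exact one_mem _
  · obtain ⟨n, -, rfl⟩ := C.fused v hv hv1
    exact (normalClosure_normal (s := ({t} : Set G))).conj_mem t (subset_normalClosure rfl) n

omit [Finite G] in
theorem wcl_le_normalClosure : wcl t ≤ normalClosure ({t} : Set G) := by
  rw [wcl, closure_le]
  rintro x ⟨g, rfl, -⟩
  exact (normalClosure_normal (s := ({t} : Set G))).conj_mem t (subset_normalClosure rfl) g

/-- The normal closure of `t` is perfect. -/
theorem commutator_normalClosure :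
    ⁅normalClosure ({t} : Set G), normalClosure ({t} : Set G)⁆ = normalClosure ({t} : Set G) := by
  set N := normalClosure ({t} : Set G)
  haveI : N.Normal := normalClosure_normal
  refine le_antisymm (commutator_le.2 fun x hx y hy => ?_) ?_
  · rw [commutatorElement_def]
    exact mul_mem (mul_mem (mul_mem hx hy) (inv_mem hx)) (inv_mem hy)
  refine normalClosure_le_normal (Set.singleton_subset_iff.2 ?_)
  obtain ⟨b, c, hbc⟩ := aR_commutator
  have hR : C.ι aR ∈ ⁅N, N⁆ := by
    have hN : ∀ a, C.ι a ∈ N := fun a => C.wcl_le_normalClosure (C.ι_mem_W a)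
    have := commutator_mem_commutator (hN b) (hN c)
    rwa [commutatorElement_def, ← map_inv, ← map_inv, ← map_mul, ← map_mul, ← map_mul, hbc] at this
  obtain ⟨n, -, hn⟩ := C.fused _ (C.ι_mem_V (Or.inr (Or.inl rfl) : InV aR))
    (fun h => aR_ne.1 (C.inj (h.trans (map_one _).symm)))
  have h := (commutator_normal N N).conj_mem _ hR n⁻¹
  rw [← hn] at h
  simpa [mul_assoc] using h

/-- The odd core is centralised by the normal closure of `t`. -/
theorem normalClosure_le_centralizer_core :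
    normalClosure ({t} : Set G) ≤ centralizer (Cfsg.pPrimeCore 2 G : Set G) := by
  haveI : Fact (Nat.Prime 2) := ⟨Nat.prime_two⟩
  set O := Cfsg.pPrimeCore 2 G with hO
  have hodd : Odd (Nat.card O) := Nat.coprime_two_right.1 Cores.pPrimeCore_coprime
  have hOW : ∀ w ∈ wcl t, w ∈ O → w = 1 := by
    intro w hw hwO
    have hcomap : O.comap C.ι = ⊥ := by
      haveI : IsSimpleGroup A5 := alternatingGroup.isSimpleGroup (by simp)
      rcases (inferInstance : (O.comap C.ι).Normal).eq_bot_or_eq_top with h | h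
      · exact h
      · exfalso
        have hR : C.ι aR ∈ O := (show aR ∈ O.comap C.ι by rw [h]; exact mem_top _)
        refine aR_ne.1 (C.inj ((?_ : C.ι aR = 1).trans (map_one _).symm))
        have h1 := pow_card_eq_one' (x := (⟨_, hR⟩ : O))
        have h2 : C.ι aR ^ Nat.card O = 1 := congrArg Subtype.val h1
        rwa [pow_odd_eq_self (by rw [← map_mul, inV_rels.1, map_one]) hodd] at h2
    obtain ⟨a, ha | ha⟩ := (C.mem_W w).1 hw
    · have : a ∈ O.comap C.ι := show C.ι a ∈ O from ha ▸ hwO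
      rw [hcomap, mem_bot] at this
      rw [ha, this, map_one]
    · exfalso
      have h2 : a * a ∈ O.comap C.ι := by
        show C.ι (a * a) ∈ O
        rw [← C.tι_mul, ← ha]; exact mul_mem hwO hwO
      rw [hcomap, mem_bot] at h2
      have hw2 : w * w = 1 := by rw [ha, C.tι_mul, h2, map_one]
      have hw1 := congrArg Subtype.val (pow_card_eq_one' (x := (⟨w, hwO⟩ : O)))
      have hw1' : w ^ Nat.card O = 1 := hw1
      rw [pow_odd_eq_self hw2 hodd, ha] at hw1'
      exact C.tι_ne a 1 (by rw [hw1', map_one])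
  -- centralisers in the core of the involutions of `V`
  have hCt : O ⊓ centralizer ({t} : Set G) ≤ centralizer (Vg S t : Set G) := by
    rintro o ⟨hoO, hot⟩
    refine mem_centralizer_iff.2 fun v hv => ?_
    have h1 : o * v * o⁻¹ * v⁻¹ = 1 := by
      refine hOW _ (mul_mem (conj_wcl_of_commute (mem_centralizer_singleton_iff.1 hot) hv.2)
        (inv_mem hv.2)) ?_
      have e : o * v * o⁻¹ * v⁻¹ = o * (v * o⁻¹ * v⁻¹) := by group
      rw [e]
      exact mul_mem hoO ((inferInstance : O.Normal).conj_mem _ (inv_mem hoO) v)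
    calc v * o = (o * v * o⁻¹ * v⁻¹)⁻¹ * o * v := by group
      _ = o * v := by rw [h1, inv_one, one_mul]
  have hall : ∀ v ∈ Vg S t, v ≠ 1 → O ⊓ centralizer {v} ≤ centralizer (Vg S t : Set G) := by
    intro v hv hv1
    obtain ⟨n, hn, rfl⟩ := C.fused v hv hv1
    rintro o ⟨hoO, hov⟩
    have hov' := mem_centralizer_singleton_iff.1 hov
    have h1 : n⁻¹ * o * n ∈ O ⊓ centralizer ({t} : Set G) := by
      refine ⟨by simpa using (inferInstance : O.Normal).conj_mem _ hoO n⁻¹,
        mem_centralizer_singleton_iff.2 ?_⟩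
      calc n⁻¹ * o * n * t = n⁻¹ * (o * (n * t * n⁻¹)) * n := by group
        _ = n⁻¹ * ((n * t * n⁻¹) * o) * n := by rw [hov']
        _ = t * (n⁻¹ * o * n) := by group
    refine mem_centralizer_iff.2 fun u hu => ?_
    have hu' := (mem_normalizer_iff.1 (inv_mem hn) u).1 hu
    have h := mem_centralizer_iff.1 (hCt h1) _ hu'
    calc u * o = n * (n⁻¹ * u * n⁻¹⁻¹ * (n⁻¹ * o * n)) * n⁻¹ := by group
      _ = n * (n⁻¹ * o * n * (n⁻¹ * u * n⁻¹⁻¹)) * n⁻¹ := by rw [h]
      _ = o * u := by group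
  have hOC : O ≤ centralizer (Vg S t : Set G) :=
    Signalizer.le_of_forall_centralizer C.V_elementary C.four_le_card
      (le_top.trans_eq (normalizer_eq_top_iff.2 inferInstance).symm)
      (Cores.not_dvd_card_pPrimeCore) hall
  haveI : (centralizer (O : Set G)).Normal := inferInstance
  refine normalClosure_le_normal (Set.singleton_subset_iff.2 ?_)
  exact mem_centralizer_iff.2 fun o ho => (mem_centralizer_iff.1 (hOC ho) t C.t_mem_V).symm

/-- `V` is a Sylow 2-subgroup of the normal closure of `t`. -/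
theorem inf_normalClosure : (S : Subgroup G) ⊓ normalClosure ({t} : Set G) = Vg S t := by
  classical
  haveI : Fact (Nat.Prime 2) := ⟨Nat.prime_two⟩
  refine le_antisymm ?_ (le_inf inf_le_left C.V_le_normalClosure)
  obtain ⟨K, hKC, hKn, hKV, hVK⟩ := C.complement
  set N := normalClosure ({t} : Set G) with hN
  haveI : N.Normal := normalClosure_normal
  set B := (S : Subgroup G) ⊓ K with hB
  set O := Cfsg.pPrimeCore 2 G with hO
  have hctx : ProdFusion.Ctx S (Vg S t) B := by
    refine ⟨⟨inf_le_left, fun x hx g hg => C.conj_mem_V hx hg⟩,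
      ⟨inf_le_left, fun x hx g hg => ⟨hg, ?_⟩⟩,
      fun a ha b hb => mem_centralizer_iff.1 (hKC hb.2) a ha, ?_⟩
    · obtain ⟨n, hn, e⟩ := C.exists_normalizer_conj hx.1 hg
      exact e ▸ hKn n hn x hx.2
    · rw [Subgroup.eq_bot_iff_forall]
      rintro x ⟨hxV, -, hxK⟩
      exact mem_bot.1 (hKV ▸ ⟨hxK, hxV⟩)
  set π := QuotientGroup.mk' O with hπ
  have hq := ProdFusion.product_fusion Cores.pPrimeCore_quotient_pPrimeCore_eq_bot _ _ _
    (hctx.map_odd (N := O) (Nat.coprime_two_right.1 Cores.pPrimeCore_coprime))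
  have hNB : ⁅N, B⁆ ≤ O := by
    refine commutator_le.2 fun x hx b hb => ?_
    rw [← QuotientGroup.eq_one_iff]
    show π ⁅x, b⁆ = 1
    rw [map_commutatorElement, ← mem_bot, ← hq]
    refine commutator_mem_commutator ?_ (subset_normalClosure (mem_map_of_mem π hb))
    have h1 := mem_map_of_mem π hx
    rw [hN, map_normalClosure _ _ (QuotientGroup.mk'_surjective O), Set.image_singleton] at h1
    exact normalClosure_mono (Set.singleton_subset_iff.2 (mem_map_of_mem π C.t_mem_V)) h1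
  have hON : ⁅O, N⁆ = ⊥ := by
    rw [commutator_comm, commutator_eq_bot_iff_le_centralizer]
    exact C.normalClosure_le_centralizer_core
  have hNB1 : ⁅N, B⁆ = ⊥ := by
    suffices hh : ⁅⁅N, N⁆, B⁆ = ⊥ by
      rwa [show ⁅N, N⁆ = N from C.commutator_normalClosure] at hh
    refine commutator_commutator_eq_bot_of_rotate ?_ ?_
    · exact le_bot_iff.1 ((commutator_mono hNB le_rfl).trans hON.le)
    · rw [commutator_comm B N]
      exact le_bot_iff.1 ((commutator_mono hNB le_rfl).trans hON.le)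
  have hBc : ∀ n ∈ N, ∀ b ∈ B, n * b = b * n := fun n hn b hb =>
    (mem_centralizer_iff.1 (commutator_eq_bot_iff_le_centralizer.1 hNB1 hn) b hb).symm
  -- transfer into `B ∩ N`
  set M := B ⊓ N with hM
  haveI : IsMulCommutative M := ⟨⟨fun a b => Subtype.ext (hBc _ a.2.2 _ b.2.1)⟩⟩
  set P := ((S : Subgroup G)).subgroupOf N with hP
  have hdec : ∀ s : P, ∃ k : M, ∃ v ∈ Vg S t, ((s : N) : G) = v * k := by
    intro s
    obtain ⟨v, hv, k, hk, e⟩ := hVK ((s : N) : G) (C.le_centralizer_V s.2)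
    have hk' : k = v⁻¹ * ((s : N) : G) := by rw [e, inv_mul_cancel_left]
    refine ⟨⟨k, ⟨?_, hk⟩, ?_⟩, v, hv, e⟩
    · show k ∈ (S : Subgroup G)
      rw [hk']; exact mul_mem (inv_mem hv.1) s.2
    · show k ∈ N
      rw [hk']; exact mul_mem (inv_mem (C.V_le_normalClosure hv)) (s : N).2
  choose pr v hv he using hdec
  have huniq : ∀ (s : P) (k : M) (u : G), u ∈ Vg S t → ((s : N) : G) = u * k → pr s = k := by
    intro s k u hu e
    have h1 : (v s)⁻¹ * u = (pr s : G) * (k : G)⁻¹ := by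
      rw [eq_mul_inv_iff_mul_eq, mul_assoc, ← e, he, inv_mul_cancel_left]
    have h2 : (pr s : G) * (k : G)⁻¹ ∈ K ⊓ Vg S t :=
      ⟨show (pr s : G) * (k : G)⁻¹ ∈ K from mul_mem (pr s).2.1.2 (inv_mem k.2.1.2),
        show (pr s : G) * (k : G)⁻¹ ∈ Vg S t from h1 ▸ mul_mem (inv_mem (hv s)) hu⟩
    rw [hKV, mem_bot, mul_inv_eq_one] at h2
    exact Subtype.ext h2
  let ψ : P →* M := MonoidHom.mk' pr fun a b => by
    refine huniq _ _ (v a * v b) (mul_mem (hv a) (hv b)) ?_
    have h := mem_centralizer_iff.1 (hKC (pr a).2.1.2) (v b) (hv b)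
    show ((a : N) : G) * ((b : N) : G) = v a * v b * ((pr a : G) * (pr b : G))
    rw [he a, he b]
    calc v a * (pr a : G) * (v b * (pr b : G)) = v a * ((pr a : G) * v b) * (pr b : G) := by group
      _ = v a * (v b * (pr a : G)) * (pr b : G) := by rw [h]
      _ = _ := by group
  have htriv : ∀ x : N, MonoidHom.transfer ψ x = 1 := by
    intro x
    have hle : _root_.commutator N ≤ (MonoidHom.transfer ψ).ker := by
      rw [_root_.commutator_def, commutator_le]
      intro a _ b _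
      rw [MonoidHom.mem_ker, map_commutatorElement, commutatorElement_eq_one_iff_mul_comm]
      exact mul_comm _ _
    refine hle ?_
    have : (_root_.commutator N).map N.subtype = N := by
      rw [map_subtype_commutator]; exact C.commutator_normalClosure
    have hx : (x : G) ∈ (_root_.commutator N).map N.subtype := by rw [this]; exact x.2
    obtain ⟨y, hy, hxy⟩ := hx
    rwa [← Subtype.ext hxy]
  intro s hs
  obtain ⟨hsS, hsN⟩ := hs
  set s' : P := ⟨⟨s, hsN⟩, hsS⟩
  suffices hk : (pr s' : G) = 1 by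
    have := he s'
    rw [hk, mul_one] at this
    exact (show s = v s' from this) ▸ hv s'
  set z : N := ⟨(pr s' : G), (pr s').2.2⟩
  have hzc : ∀ g : N, g * z = z * g := fun g => Subtype.ext (hBc _ g.2 _ (pr s').2.1)
  have hzP : z ∈ P := (pr s').2.1.1
  have h1 := htriv z
  rw [MonoidHom.transfer_eq_pow ψ z fun k g₀ _ => by
    have hzc' : g₀ * z ^ k = z ^ k * g₀ := ((show Commute g₀ z from hzc g₀).pow_right k).eq
    rw [mul_assoc, ← hzc', inv_mul_cancel_left]] at h1
  have h2 : ψ (⟨z, hzP⟩ ^ P.index) = 1 := h1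
  have h3 : pr ⟨z, hzP⟩ = pr s' := huniq _ _ 1 (one_mem _) (one_mul _).symm
  rw [map_pow, show ψ ⟨z, hzP⟩ = pr s' from h3] at h2
  have h4 : (pr s' : G) ^ P.index = 1 := congrArg Subtype.val h2
  obtain ⟨k, hk⟩ := S.isPGroup' ⟨_, (pr s').2.1.1⟩
  have h5 : (pr s' : G) ^ 2 ^ k = 1 := congrArg Subtype.val hk
  have hPodd : Odd P.index := ProdFusion.odd_relIndex_of_normal S N
  exact orderOf_eq_one_iff.1 (Nat.eq_one_of_dvd_coprimes
    ((Nat.coprime_two_left.2 hPodd).pow_left k) (orderOf_dvd_of_pow_eq_one h5)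
    (orderOf_dvd_of_pow_eq_one h4))

theorem t_mem_normalClosure : t ∈ normalClosure ({t} : Set G) := subset_normalClosure rfl

/-- Fusion inside the normal closure. -/
theorem fused_normalClosure :
    ∀ v ∈ Vg S t, v ≠ 1 → ∃ r ∈ normalClosure ({t} : Set G), r * t * r⁻¹ = v := by
  set N := normalClosure ({t} : Set G) with hN
  haveI : N.Normal := normalClosure_normal
  set R := normalizer (Vg S t : Set G) ⊓ N with hR
  have hC : C.ι aC ∈ R := ⟨C.aC_normalizes, C.wcl_le_normalClosure (C.ι_mem_W _)⟩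
  have hVR : Vg S t ≤ centralizer ({t} : Set G) ⊓ R := fun v hv =>
    ⟨C.le_centralizer hv.1, C.sylow_normalizes hv.1, C.V_le_normalClosure hv⟩
  have hodd : Odd ((centralizer ({t} : Set G)).relIndex R) := by
    have h1 : Odd ((Vg S t).relIndex N) := by
      rw [← C.inf_normalClosure, inf_relIndex_right]
      exact ProdFusion.odd_relIndex_of_normal S N
    refine h1.of_dvd_nat ((relIndex_dvd_of_le_left R (hVR.trans inf_le_left)).trans ?_)
    exact Dvd.intro _ (relIndex_mul_relIndex _ _ _ (hVR.trans inf_le_right) inf_le_right)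
  have hmove : ∃ r ∈ R, r * t * r⁻¹ ≠ t := by
    by_contra! hfix
    obtain ⟨n, hn, hnR⟩ := C.fused _ (C.ι_mem_V (Or.inr (Or.inl rfl) : InV aR))
      (fun h => aR_ne.1 (C.inj (h.trans (map_one _).symm)))
    have hmem : n⁻¹ * C.ι aC * n ∈ R := ⟨show n⁻¹ * C.ι aC * n ∈ normalizer (Vg S t : Set G) from
        mul_mem (mul_mem (inv_mem hn) C.aC_normalizes) hn,
      by simpa using (inferInstance : N.Normal).conj_mem _ hC.2 n⁻¹⟩
    have h := hfix _ hmem
    refine aR_ne.2.2.1 (C.inj ?_).symm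
    calc C.ι aS = C.ι aC * C.ι aR * (C.ι aC)⁻¹ := by
          rw [← map_inv, ← map_mul, ← map_mul, aR_ne.2.2.2]
      _ = n * (n⁻¹ * C.ι aC * n * t * (n⁻¹ * C.ι aC * n)⁻¹) * n⁻¹ := by rw [← hnR]; group
      _ = C.ι aR := by rw [h, hnR]
  intro v hv hv1
  obtain ⟨r, hr, e⟩ := C.full_of_orbit inf_le_left hC hodd hmove v hv hv1
  exact ⟨r, hr.2, e⟩

/-- Conjugates of `t` in a subgroup with the same fusion. -/
theorem conj_in_subgroup {M : Subgroup G} (hodd : Odd ((S : Subgroup G).relIndex M))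
    (hf : ∀ v ∈ Vg S t, v ≠ 1 → ∃ r ∈ M, r * t * r⁻¹ = v) {g : G} (hg : g * t * g⁻¹ ∈ M) :
    ∃ m ∈ M, m * t * m⁻¹ = g * t * g⁻¹ := by
  haveI : Fact (Nat.Prime 2) := ⟨Nat.prime_two⟩
  set P := (S : Subgroup G).subgroupOf M with hP
  have hPp : IsPGroup 2 P := S.isPGroup'.comap_subtype
  let PS : Sylow 2 M := hPp.toSylow (by
    rw [← even_iff_two_dvd, Nat.not_even_iff_odd]; exact hodd)
  set x : M := ⟨g * t * g⁻¹, hg⟩
  have hx2 : x * x = 1 := Subtype.ext (by
    show g * t * g⁻¹ * (g * t * g⁻¹) = 1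
    calc g * t * g⁻¹ * (g * t * g⁻¹) = g * (t * t) * g⁻¹ := by group
      _ = 1 := by rw [C.tt, mul_one, mul_inv_cancel])
  obtain ⟨Q, hQ⟩ := (isPGroup_zpowers_two hx2).exists_le_sylow
  obtain ⟨m, hm⟩ := MulAction.exists_smul_eq M Q PS
  have h1 : m * x * m⁻¹ ∈ (PS : Subgroup M) := by
    rw [← hm, Sylow.coe_subgroup_smul, Subgroup.mem_pointwise_smul_iff_inv_smul_mem]
    simpa [mul_assoc] using hQ (mem_zpowers x)
  have h2 : (m : G) * g * t * ((m : G) * g)⁻¹ ∈ (S : Subgroup G) := by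
    have : ((m * x * m⁻¹ : M) : G) ∈ (S : Subgroup G) := h1
    simpa [x, mul_assoc] using this
  obtain ⟨r, hr, e⟩ := hf _ (C.conj_t_mem_V h2) fun h => C.t_ne_one (conj_eq_one_iff.1 h)
  refine ⟨(m : G)⁻¹ * r, mul_mem (inv_mem m.2) hr, ?_⟩
  calc (m : G)⁻¹ * r * t * ((m : G)⁻¹ * r)⁻¹ = (m : G)⁻¹ * (r * t * r⁻¹) * m := by group
    _ = g * t * g⁻¹ := by rw [e]; group

/-- The hypothesis descends to a subgroup with the same fusion. -/
theorem hyp_subgroup (h : Hyp t) {M : Subgroup G} (hodd : Odd ((S : Subgroup G).relIndex M))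
    (hW : wcl t ≤ M) (hf : ∀ v ∈ Vg S t, v ≠ 1 → ∃ r ∈ M, r * t * r⁻¹ = v) (htM : t ∈ M) :
    Hyp (⟨t, htM⟩ : M) ∧ (wcl (⟨t, htM⟩ : M)).map M.subtype = wcl t := by
  haveI : Fact (Nat.Prime 2) := ⟨Nat.prime_two⟩
  have heq : (wcl (⟨t, htM⟩ : M)).map M.subtype = wcl t := by
    refine le_antisymm ?_ ?_
    · rw [wcl, MonoidHom.map_closure, closure_le]
      rintro _ ⟨x, ⟨g, rfl, hx⟩, rfl⟩
      exact conj_mem_wcl (congrArg Subtype.val hx)
    · rw [wcl, closure_le]
      rintro x ⟨g, rfl, hx⟩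
      obtain ⟨m, hm, e⟩ := C.conj_in_subgroup hodd hf (hW (conj_mem_wcl hx))
      refine ⟨⟨m, hm⟩ * ⟨t, htM⟩ * ⟨m, hm⟩⁻¹, conj_mem_wcl (Subtype.ext ?_), e⟩
      show m * t * m⁻¹ * t = t * (m * t * m⁻¹)
      rw [e]; exact hx
  refine ⟨⟨?_, ?_, ?_⟩, heq⟩
  · rw [← Subgroup.orderOf_coe]
    exact orderOf_eq_prime (by rw [pow_two]; exact C.tt) C.t_ne_one
  · have hPp : IsPGroup 2 ((S : Subgroup G).subgroupOf M) := S.isPGroup'.comap_subtype
    exact ⟨hPp.toSylow (by rw [← even_iff_two_dvd, Nat.not_even_iff_odd]; exact hodd),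
      C.memS, fun s hs => Subtype.ext (C.le _ hs)⟩
  · obtain ⟨e⟩ := h.iso
    exact ⟨((equivMapOfInjective _ _ M.subtype_injective).trans
      (MulEquiv.subgroupCongr heq)).trans e⟩

end Coord

end Cfsg.Agent.TwoWeak
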