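import Cfsg.Agent.TwoWeak.Reduce
import Cfsg.Agent.TwoWeak.OddJ1
import Cfsg.Agent.J1Unique.Janko

/-!
No proper odd-order factor in `C(t)`: otherwise its normaliser would be strongly embedded.
-/

set_option autoImplicit false

universe u

namespace Cfsg.Agent.TwoWeak

open Subgroup
open Cfsg.Agent.J1Unique

/-- The conclusion for a group generated by the class of `t`. -/
def Concl {G : Type u} [Group G] (t : G) : Prop :=
  IsSimpleGroup G ∧ Nat.card G = 175560 ∧ centralizer ({t} : Set G) = wcl t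

/-- The induction statement. -/
def Below (n : ℕ) : Prop :=
  ∀ (G : Type u) [Group G] [Finite G] (t : G),
    Nat.card G < n → Hyp t → normalClosure ({t} : Set G) = ⊤ → Concl t

theorem isoJ1_of_concl {G : Type u} [Group G] [Finite G] {t : G} (h : Hyp t) (hc : Concl t) :
    Cfsg.Spor.IsoJ1 G := by
  obtain ⟨hs, hcard, hC⟩ := hc
  haveI := hs
  obtain ⟨e⟩ := h.iso
  exact isoJ1_of_card hcard h.ord ((MulEquiv.subgroupCongr hC).trans e)

variable {G : Type u} [Group G] [Finite G] {S : Sylow 2 G} {t : G}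

/-- A proper subgroup with the same fusion contains a copy of `J₁` generated by the class of `t`. -/
theorem sub_core (IH : Below.{u} (Nat.card G)) (h : Hyp t) (C : Coord S t) {M : Subgroup G}
    (hne : M ≠ ⊤) (hSM : (S : Subgroup G) ≤ M) (hW : wcl t ≤ M)
    (hf : ∀ v ∈ Vg S t, v ≠ 1 → ∃ r ∈ M, r * t * r⁻¹ = v) :
    ∃ J : Subgroup G, J ≤ M ∧ (∀ m ∈ M, ∀ j ∈ J, m * j * m⁻¹ ∈ J) ∧ Nat.card J = 175560 ∧
      IsSimpleGroup J ∧ Cfsg.Spor.IsoJ1 J ∧ t ∈ J ∧ wcl t ≤ J ∧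
      centralizer ({t} : Set G) ⊓ J = wcl t ∧
      (∀ g : G, g * t * g⁻¹ ∈ M → g * t * g⁻¹ ∈ J) ∧
      (∀ x ∈ J, x * x = 1 → x ≠ 1 → ∃ j ∈ J, j * t * j⁻¹ = x) ∧
      ∀ U : Subgroup G, (∀ j ∈ J, j * t * j⁻¹ ∈ U) → J ≤ U := by
  haveI : Fact (Nat.Prime 2) := ⟨Nat.prime_two⟩
  have hoddM : Odd ((S : Subgroup G).relIndex M) := by
    refine Odd.of_dvd_nat ?_ (Dvd.intro _ (relIndex_mul_index hSM))
    rw [← Nat.not_even_iff_odd, even_iff_two_dvd]
    exact S.not_dvd_index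
  have htM : t ∈ M := hW (self_mem_wcl t)
  obtain ⟨hM, hmapM⟩ := C.hyp_subgroup h hoddM hW hf htM
  set JM := normalClosure ({⟨t, htM⟩} : Set M) with hJM
  obtain ⟨t'', ht'', hJ, htop, hmapJ⟩ : ∃ t'' : ↥JM, (t'' : M) = ⟨t, htM⟩ ∧ Hyp t'' ∧
      normalClosure ({t''} : Set JM) = ⊤ ∧ (wcl t'').map JM.subtype = wcl (⟨t, htM⟩ : M) :=
    reduce hM
  have hlt : Nat.card JM < Nat.card G := by
    refine (Nat.le_of_dvd Nat.card_pos (card_subgroup_dvd_card JM)).trans_lt ?_
    exact lt_of_le_of_ne (Nat.le_of_dvd Nat.card_pos (card_subgroup_dvd_card M))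
      fun e => hne (eq_top_of_card_eq M e)
  have hc := IH JM t'' hlt hJ htop
  obtain ⟨hs, hcard, hC⟩ := hc
  set J := JM.map M.subtype with hJdef
  let e : ↥JM ≃* ↥J := equivMapOfInjective _ _ M.subtype_injective
  have he : ∀ x : JM, ((e x : J) : G) = ((x : M) : G) := fun x =>
    coe_equivMapOfInjective_apply _ _ _ x
  have ht''' : ((t'' : M) : G) = t := congrArg Subtype.val ht''
  have hWJ : ((wcl t'').map JM.subtype).map M.subtype = wcl t := by rw [hmapJ, hmapM]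
  refine ⟨J, map_subtype_le _, ?_, ?_, ?_, ?_, ⟨⟨t, htM⟩, subset_normalClosure rfl, rfl⟩, ?_, ?_,
    ?_, ?_, ?_⟩
  · rintro m hm _ ⟨j, hj, rfl⟩
    have hn : JM.Normal := normalClosure_normal
    exact ⟨⟨m, hm⟩ * j * ⟨m, hm⟩⁻¹, hn.conj_mem j hj ⟨m, hm⟩, rfl⟩
  · rw [← Nat.card_congr e.toEquiv, hcard]
  · haveI := hs
    exact e.isSimpleGroup_congr.1 inferInstance
  · obtain ⟨f⟩ := isoJ1_of_concl hJ ⟨hs, hcard, hC⟩
    exact ⟨e.symm.trans f⟩
  · rw [← hWJ]
    exact map_mono (map_subtype_le _)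
  · refine le_antisymm ?_ (le_inf (wcl_le_centralizer t) (by rw [← hWJ]; exact map_mono (map_subtype_le _)))
    rintro x ⟨hxt, x', hx', rfl⟩
    rw [← hWJ]
    refine ⟨x', ⟨⟨x', hx'⟩, ?_, rfl⟩, rfl⟩
    rw [SetLike.mem_coe, ← hC, mem_centralizer_singleton_iff]
    refine Subtype.ext (Subtype.ext ?_)
    show ((x' : M) : G) * ((t'' : M) : G) = ((t'' : M) : G) * ((x' : M) : G)
    rw [ht''']
    exact mem_centralizer_singleton_iff.1 hxt
  · intro g hg
    obtain ⟨m, hm, e'⟩ := C.conj_in_subgroup hoddM hf hg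
    have hn : JM.Normal := normalClosure_normal
    exact ⟨⟨m, hm⟩ * ⟨t, htM⟩ * ⟨m, hm⟩⁻¹,
      hn.conj_mem ⟨t, htM⟩ (subset_normalClosure (Set.mem_singleton _)) ⟨m, hm⟩, e'⟩
  · rintro _ ⟨x, hx, rfl⟩ hx2 hx1
    obtain ⟨j, hj⟩ := conj_of_involution htop hJ (x := (⟨x, hx⟩ : JM))
      (Subtype.ext (Subtype.ext hx2)) (fun h1 => hx1 (by
        have : (x : G) = 1 := congrArg (fun y : JM => ((y : M) : G)) h1
        exact this))
    refine ⟨((j : M) : G), ⟨j, j.2, rfl⟩, ?_⟩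
    have := congrArg (fun y : JM => ((y : M) : G)) hj
    simpa [ht'''] using this
  · intro U hU
    have hle : normalClosure ({t''} : Set JM) ≤ (U.comap M.subtype).comap JM.subtype := by
      refine (closure_le (k := Group.conjugatesOfSet ({t''} : Set JM)) _).2 fun y hy => ?_
      obtain ⟨z, hz, hzy⟩ := Group.mem_conjugatesOfSet_iff.1 hy
      rw [Set.mem_singleton_iff] at hz
      obtain ⟨g, hg⟩ := isConj_iff.1 (hz ▸ hzy)
      show ((y : M) : G) ∈ U
      have := hU _ (show ((g : M) : G) ∈ J from ⟨g, g.2, rfl⟩)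
      rw [← hg]
      simpa [ht'''] using this
    rintro _ ⟨x, hx, rfl⟩
    exact hle (htop ▸ mem_top (⟨x, hx⟩ : JM))

theorem mem_map_conj_iff {H : Subgroup G} {g x : G} :
    x ∈ H.map (MulAut.conj g).toMonoidHom ↔ g⁻¹ * x * g ∈ H := by
  rw [Subgroup.mem_map_equiv]; simp

/-- Two involutions in different conjugates of a strongly embedded subgroup: odd product. -/
theorem odd_orderOf_mul {D : Subgroup G} (hD : ∀ z ∈ D, z * z = 1 → z = 1) {a b : G}
    (ha : a * a = 1) (hb : b * b = 1)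
    (h : ∀ z : G, z * z = 1 → z ≠ 1 → Commute z a → Commute z b → z ∈ D) :
    Odd (orderOf (a * b)) := by
  by_contra hne
  rw [Nat.not_odd_iff_even] at hne
  obtain ⟨m, hm⟩ := hne
  set r := a * b with hr
  set z := r ^ m with hz
  have hm0 : 0 < m := by have := orderOf_pos r; omega
  have hz2 : z * z = 1 := by rw [hz, ← pow_add, ← hm, pow_orderOf_eq_one]
  have hz1 : z ≠ 1 := fun e => by
    have := Nat.le_of_dvd hm0 (orderOf_dvd_of_pow_eq_one e)
    omega
  have hai : a⁻¹ = a := inv_eq_of_mul_eq_one_right ha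
  have hbi : b⁻¹ = b := inv_eq_of_mul_eq_one_right hb
  have hzi : z⁻¹ = z := inv_eq_of_mul_eq_one_right hz2
  have hra : a * r * a⁻¹ = r⁻¹ := by
    rw [hr, mul_inv_rev, hai, hbi]
    simp only [← mul_assoc, ha, one_mul]
  have hrb : b * r * b⁻¹ = r⁻¹ := by
    rw [hr, mul_inv_rev, hai, hbi]
    simp [mul_assoc, hb]
  have hza : a * z * a⁻¹ = z := by rw [hz, ← conj_pow, hra, inv_pow, ← hz, hzi]
  have hzb : b * z * b⁻¹ = z := by rw [hz, ← conj_pow, hrb, inv_pow, ← hz, hzi]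
  exact hz1 (hD z (h z hz2 hz1 (show Commute z a from (mul_inv_eq_iff_eq_mul.1 hza).symm)
    (show Commute z b from (mul_inv_eq_iff_eq_mul.1 hzb).symm)) hz2)

theorem no_odd_factor (IH : Below.{u} (Nat.card G)) (h : Hyp t) [IsSimpleGroup G] (C : Coord S t)
    (hSV : (S : Subgroup G) = Vg S t) {K : Subgroup G}
    (hKC : K ≤ centralizer (Vg S t : Set G)) (hKV : K ⊓ Vg S t = ⊥)
    (hKn : ∀ n ∈ normalizer (Vg S t : Set G), ∀ x ∈ K, n * x * n⁻¹ ∈ K)
    (hKW : K ≤ centralizer (wcl t : Set G))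
    (hdec : ∀ c, c * t = t * c → ∃ w ∈ wcl t, ∃ k ∈ K, c = w * k) : K = ⊥ := by
  classical
  by_contra hKne
  haveI : Fact (Nat.Prime 2) := ⟨Nat.prime_two⟩
  have hKt : ∀ k ∈ K, k * t = t * k := fun k hk =>
    (mem_centralizer_iff.1 (hKC hk) t C.t_mem_V).symm
  have htK : t ∉ K := fun h1 => C.t_ne_one (mem_bot.1 (hKV ▸ ⟨h1, C.t_mem_V⟩))
  set H := normalizer (K : Set G) with hH
  have hCH : ∀ c, c * t = t * c → c ∈ H := by
    intro c hc
    obtain ⟨w, hw, k, hk, rfl⟩ := hdec c hc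
    refine mul_mem ?_ (le_normalizer hk)
    exact centralizer_le_normalizer (K : Set G)
      (mem_centralizer_iff.2 fun x hx => (mem_centralizer_iff.1 (hKW hx) w hw).symm)
  have hWH : wcl t ≤ H := fun w hw =>
    hCH w (mem_centralizer_singleton_iff.1 (wcl_le_centralizer t hw))
  have hSH : (S : Subgroup G) ≤ H := fun s hs => hCH s (C.le s hs)
  have hHne : H ≠ ⊤ := fun e => by
    haveI : K.Normal := normalizer_eq_top_iff.1 e
    rcases (inferInstance : K.Normal).eq_bot_or_eq_top with h1 | h1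
    · exact hKne h1
    · exact htK (h1 ▸ mem_top t)
  have hfH : ∀ v ∈ Vg S t, v ≠ 1 → ∃ r ∈ H, r * t * r⁻¹ = v := fun v hv hv1 => by
    obtain ⟨n, hn, e⟩ := C.fused v hv hv1
    exact ⟨n, ProdFusion.normalizer_of_conj_mem (hKn n hn), e⟩
  obtain ⟨J, hJH, hJn, hJcard, hJs, ⟨f₁⟩, htJ, hWJ, hCJ, hJclass, hJinv, hJgen⟩ :=
    sub_core IH h C hHne hSH hWH hfH
  -- involutions of `H`
  have hconjS : ∀ x : G, x * x = 1 → x ≠ 1 → ∃ g, g * t * g⁻¹ = x := by
    intro x hx hx1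
    obtain ⟨Q, hQ⟩ := (isPGroup_zpowers_two hx).exists_le_sylow
    obtain ⟨m, hm⟩ := MulAction.exists_smul_eq G Q S
    have h1 : m * x * m⁻¹ ∈ Vg S t := by
      rw [← hSV, ← hm, Sylow.coe_subgroup_smul, Subgroup.mem_pointwise_smul_iff_inv_smul_mem]
      simpa [mul_assoc] using hQ (mem_zpowers x)
    obtain ⟨n, -, hn⟩ := C.fused _ h1 fun e => hx1 (conj_eq_one_iff.1 e)
    refine ⟨m⁻¹ * n, ?_⟩
    calc m⁻¹ * n * t * (m⁻¹ * n)⁻¹ = m⁻¹ * (n * t * n⁻¹) * m := by group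
      _ = x := by rw [hn]; group
  have hinvH : ∀ x ∈ H, x * x = 1 → x ≠ 1 → ∃ j ∈ J, j * t * j⁻¹ = x := by
    intro x hx hx2 hx1
    obtain ⟨g, rfl⟩ := hconjS x hx2 hx1
    exact hJinv _ (hJclass g hx) hx2 hx1
  have hcentH : ∀ x ∈ H, x * x = 1 → x ≠ 1 → ∀ y, Commute y x → y ∈ H := by
    intro x hx hx2 hx1 y hy
    obtain ⟨j, hj, rfl⟩ := hinvH x hx hx2 hx1
    have h1 : j⁻¹ * y * j ∈ H := hCH _ (by
      calc j⁻¹ * y * j * t = j⁻¹ * (y * (j * t * j⁻¹)) * j := by group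
        _ = j⁻¹ * ((j * t * j⁻¹) * y) * j := by rw [hy.eq]
        _ = t * (j⁻¹ * y * j) := by group)
    have := mul_mem (mul_mem (hJH hj) h1) (inv_mem (hJH hj))
    simpa [mul_assoc] using this
  have hSE : ∀ g x, x * x = 1 → x ≠ 1 → x ∈ H → g⁻¹ * x * g ∈ H → g ∈ H := by
    intro g x hx2 hx1 hx hgx
    have h2 : g⁻¹ * x * g * (g⁻¹ * x * g) = 1 := by
      calc g⁻¹ * x * g * (g⁻¹ * x * g) = g⁻¹ * (x * x) * g := by group
        _ = 1 := by rw [hx2, mul_one, inv_mul_cancel]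
    have h1 : g⁻¹ * x * g ≠ 1 := fun e => hx1 (by
      calc x = g * (g⁻¹ * x * g) * g⁻¹ := by group
        _ = 1 := by rw [e, mul_one, mul_inv_cancel])
    obtain ⟨b, hb, hbx⟩ := hinvH _ hgx h2 h1
    obtain ⟨a, ha, hax⟩ := hinvH x hx hx2 hx1
    have h3 : a⁻¹ * g * b ∈ H := hCH _ (by
      calc a⁻¹ * g * b * t = a⁻¹ * g * (b * t * b⁻¹) * b := by group
        _ = a⁻¹ * g * (g⁻¹ * x * g) * b := by rw [hbx]
        _ = a⁻¹ * (a * t * a⁻¹) * g * b := by rw [hax]; group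
        _ = t * (a⁻¹ * g * b) := by group)
    have := mul_mem (mul_mem (hJH ha) h3) (inv_mem (hJH hb))
    simpa [mul_assoc] using this
  -- a second conjugate of `H`
  obtain ⟨g, hg⟩ : ∃ g, g ∉ H := by
    by_contra! hall
    exact hHne ((Subgroup.eq_top_iff' H).2 hall)
  set D := H ⊓ H.map (MulAut.conj g).toMonoidHom with hD
  have hDmem : ∀ x, x ∈ D ↔ x ∈ H ∧ g⁻¹ * x * g ∈ H := fun x => by
    rw [hD, Subgroup.mem_inf, mem_map_conj_iff]
  have hD2 : ∀ z ∈ D, z * z = 1 → z = 1 := fun z hz hz2 => by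
    by_contra hz1
    exact hg (hSE g z hz2 hz1 ((hDmem z).1 hz).1 ((hDmem z).1 hz).2)
  have hDodd : Odd (Nat.card D) := by
    rw [← Nat.not_even_iff_odd, even_iff_two_dvd]
    intro h2
    obtain ⟨⟨z, hz⟩, hzo⟩ := exists_prime_orderOf_dvd_card' 2 h2
    rw [Subgroup.orderOf_mk] at hzo
    rw [hD2 z hz (by rw [← pow_two, ← hzo, pow_orderOf_eq_one]), orderOf_one] at hzo
    exact absurd hzo (by decide)
  have htH : t ∈ H := hJH htJ
  have hgt : g⁻¹ * t * g ∉ H := fun e => hg (hSE g t C.tt C.t_ne_one htH e)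
  -- the involutions of `H`
  set IH' : Set G := {v | v ∈ H ∧ v * v = 1 ∧ v ≠ 1} with hIH'
  have hIH : IH'.ncard = 1463 := by
    have heq : IH' = {v : G | ∃ r ∈ J, r * t * r⁻¹ = v} := by
      refine Set.ext fun v => ⟨fun ⟨hv, hv2, hv1⟩ => hinvH v hv hv2 hv1, ?_⟩
      rintro ⟨r, hr, rfl⟩
      refine ⟨mul_mem (mul_mem (hJH hr) htH) (inv_mem (hJH hr)), ?_, fun e =>
        C.t_ne_one (conj_eq_one_iff.1 e)⟩
      calc r * t * r⁻¹ * (r * t * r⁻¹) = r * (t * t) * r⁻¹ := by group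
        _ = 1 := by rw [C.tt, mul_one, mul_inv_cancel]
    rw [heq, ncard_conj_eq_relIndex, ← inf_relIndex_right, hCJ]
    obtain ⟨e⟩ := h.iso
    have hW120 : Nat.card (wcl t) = 120 := by
      rw [Nat.card_congr e.toEquiv, Nat.card_eq_fintype_card]; decide +kernel
    have hmul := ((wcl t).subgroupOf J).card_mul_index
    rw [Nat.card_congr (subgroupOfEquivOfLe hWJ).toEquiv, hW120, hJcard] at hmul
    show ((wcl t).subgroupOf J).index = 1463
    omega
  -- the involutions interchanging `H` and its conjugate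
  set Sw : Set G := {w | w * w = 1 ∧ w ≠ 1 ∧ g⁻¹ * w ∈ H} with hSw
  set I' : Set G := {u | g⁻¹ * u * g ∈ IH'} with hI'
  have hI'card : I'.ncard = 1463 := by
    have : I' = (fun v => g * v * g⁻¹) '' IH' := by
      refine Set.ext fun u => ⟨fun hu => ⟨_, hu, by group⟩, ?_⟩
      rintro ⟨v, hv, rfl⟩
      show g⁻¹ * (g * v * g⁻¹) * g ∈ IH'
      have e : g⁻¹ * (g * v * g⁻¹) * g = v := by group
      rw [e]; exact hv
    rw [this, Set.ncard_image_of_injective _ fun a b hab =>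
      mul_left_cancel (mul_right_cancel hab), hIH]
  have hoddw : ∀ w ∈ Sw, Odd (orderOf (t * w)) := by
    rintro w ⟨hw2, hw1, hwH⟩
    refine odd_orderOf_mul hD2 C.tt hw2 fun z hz2 hz1 hzt hzw => ?_
    have hzH : z ∈ H := hcentH t htH C.tt C.t_ne_one z hzt
    refine (hDmem z).2 ⟨hzH, ?_⟩
    have h1 := mul_mem (mul_mem hwH hzH) (inv_mem hwH)
    have e : g⁻¹ * w * z * (g⁻¹ * w)⁻¹ = g⁻¹ * z * g := by
      calc g⁻¹ * w * z * (g⁻¹ * w)⁻¹ = g⁻¹ * (w * z) * w⁻¹ * g := by group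
        _ = g⁻¹ * (z * w) * w⁻¹ * g := by rw [hzw.eq]
        _ = g⁻¹ * z * g := by group
    rwa [e] at h1
  have hSwD : ∀ w ∈ Sw, ∀ w' ∈ Sw, w * w' ∈ D := by
    rintro w ⟨hw2, -, hw⟩ w' ⟨hw2', -, hw'⟩
    have hwi : w⁻¹ = w := inv_eq_of_mul_eq_one_right hw2
    have hwi' : w'⁻¹ = w' := inv_eq_of_mul_eq_one_right hw2'
    refine (hDmem _).2 ⟨?_, ?_⟩
    · have := mul_mem (inv_mem hw) hw'
      rw [mul_inv_rev, inv_inv, hwi] at this
      simpa [mul_assoc] using this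
    · have := mul_mem hw (inv_mem hw')
      rw [mul_inv_rev, inv_inv, hwi'] at this
      simpa [mul_assoc] using this
  have hSwcard : Sw.ncard = 1463 := by
    rw [← hI'card]
    have himg : (fun w => w * t * w⁻¹) '' Sw = I' := by
      refine Set.ext fun u => ⟨?_, ?_⟩
      · rintro ⟨w, ⟨hw2, hw1, hw⟩, rfl⟩
        show g⁻¹ * (w * t * w⁻¹) * g ∈ IH'
        refine ⟨?_, ?_, fun e => C.t_ne_one ?_⟩
        · have := mul_mem (mul_mem hw htH) (inv_mem hw)
          simpa [mul_assoc] using this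
        · calc g⁻¹ * (w * t * w⁻¹) * g * (g⁻¹ * (w * t * w⁻¹) * g)
              = g⁻¹ * w * (t * t) * w⁻¹ * g := by group
            _ = 1 := by rw [C.tt]; group
        · calc t = w⁻¹ * g * (g⁻¹ * (w * t * w⁻¹) * g) * g⁻¹ * w := by group
            _ = 1 := by rw [e]; group
      · intro hu
        obtain ⟨huH, hu2', hu1'⟩ := hu
        have hu2 : u * u = 1 := by
          calc u * u = g * (g⁻¹ * u * g * (g⁻¹ * u * g)) * g⁻¹ := by group
            _ = 1 := by rw [hu2', mul_one, mul_inv_cancel]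
        have hodd : Odd (orderOf (t * u)) := by
          refine odd_orderOf_mul hD2 C.tt hu2 fun z hz2 hz1 hzt hzu => ?_
          refine (hDmem z).2 ⟨hcentH t htH C.tt C.t_ne_one z hzt, ?_⟩
          refine hcentH _ huH hu2' hu1' _ ?_
          show g⁻¹ * z * g * (g⁻¹ * u * g) = g⁻¹ * u * g * (g⁻¹ * z * g)
          calc g⁻¹ * z * g * (g⁻¹ * u * g) = g⁻¹ * (z * u) * g := by group
            _ = g⁻¹ * (u * z) * g := by rw [hzu.eq]
            _ = g⁻¹ * u * g * (g⁻¹ * z * g) := by group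
        obtain ⟨k, hk⟩ := hodd
        set r := t * u with hr
        have hti : t⁻¹ = t := C.t_inv
        have hui : u⁻¹ = u := inv_eq_of_mul_eq_one_right hu2
        have htr : t * r * t⁻¹ = r⁻¹ := by
          rw [hr, mul_inv_rev, hui, hti, ← mul_assoc, C.tt, one_mul]
        have htrk : t * r ^ k * t⁻¹ = (r ^ k)⁻¹ := by rw [← conj_pow, htr, inv_pow]
        set w := r ^ k * t with hw
        have hw2 : w * w = 1 := by
          calc w * w = r ^ k * (t * r ^ k * t⁻¹) * (t * t) := by rw [hw]; group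
            _ = 1 := by rw [htrk, C.tt, mul_one, mul_inv_cancel]
        have hwu : w * t * w⁻¹ = u := by
          calc w * t * w⁻¹ = r ^ k * (t * r ^ k * t⁻¹)⁻¹ * t := by rw [hw]; group
            _ = r ^ (2 * k) * t := by rw [htrk, inv_inv, two_mul, pow_add]
            _ = r ^ (2 * k + 1) * (r⁻¹ * t) := by rw [pow_succ]; group
            _ = u := by
              rw [← hk, pow_orderOf_eq_one, one_mul, hr, mul_inv_rev, hui, hti, mul_assoc, C.tt,
                mul_one]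
        have hw1 : w ≠ 1 := fun e => by
          rw [e, one_mul, inv_one, mul_one] at hwu
          exact hgt (hwu ▸ huH)
        obtain ⟨a, ha, hau⟩ := hinvH _ huH hu2' hu1'
        have h3 : (g * a)⁻¹ * w ∈ H := hCH _ (by
          calc (g * a)⁻¹ * w * t = (g * a)⁻¹ * (w * t * w⁻¹) * w := by group
            _ = a⁻¹ * (g⁻¹ * u * g) * g⁻¹ * w := by rw [hwu]; group
            _ = a⁻¹ * (a * t * a⁻¹) * g⁻¹ * w := by rw [hau]
            _ = t * ((g * a)⁻¹ * w) := by group)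
        refine ⟨w, ⟨hw2, hw1, ?_⟩, hwu⟩
        have := mul_mem (hJH ha) h3
        simpa [mul_assoc] using this
    rw [← himg, Set.InjOn.ncard_image]
    intro w hw w' hw' e
    have hwi : w⁻¹ = w := inv_eq_of_mul_eq_one_right hw.1
    have hwi' : w'⁻¹ = w' := inv_eq_of_mul_eq_one_right hw'.1
    set e₀ := w * w' with he₀
    have he0D : e₀ ∈ D := hSwD w hw w' hw'
    have hct : Commute t e₀ := by
      have e' : w * t * w = w' * t * w' := by
        have : w * t * w⁻¹ = w' * t * w'⁻¹ := e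
        rwa [hwi, hwi'] at this
      show t * (w * w') = w * w' * t
      calc t * (w * w') = w * (w * t * w) * w' := by
            simp only [← mul_assoc, hw.1, one_mul]
        _ = w * (w' * t * w') * w' := by rw [e']
        _ = w * w' * t := by simp only [mul_assoc, hw'.1, mul_one]
    have hwe : w * e₀ * w⁻¹ = e₀⁻¹ := by
      rw [he₀, mul_inv_rev, hwi', hwi, ← mul_assoc, hw.1, one_mul]
    obtain ⟨k, hk⟩ := hoddw w hw
    set r := t * w with hr
    have hre : r * e₀ * r⁻¹ = e₀⁻¹ := by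
      calc r * e₀ * r⁻¹ = t * (w * e₀ * w⁻¹) * t⁻¹ := by rw [hr]; group
        _ = e₀⁻¹ := by rw [hwe, hct.inv_right.eq, mul_inv_cancel_right]
    have hre2 : Commute (r * r) e₀ := by
      refine mul_inv_eq_iff_eq_mul.1 ?_
      calc r * r * e₀ * (r * r)⁻¹ = r * (r * e₀ * r⁻¹) * r⁻¹ := by group
        _ = (r * e₀ * r⁻¹)⁻¹ := by nth_rewrite 1 [hre]; group
        _ = e₀ := by rw [hre, inv_inv]
    have hfin : e₀ = e₀⁻¹ := by
      calc e₀ = (r ^ (2 * k + 1)) * e₀ * (r ^ (2 * k + 1))⁻¹ := by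
            rw [← hk, pow_orderOf_eq_one, one_mul, inv_one, mul_one]
        _ = (r * r) ^ k * (r * e₀ * r⁻¹) * ((r * r) ^ k)⁻¹ := by
            rw [pow_succ, pow_mul, pow_two]; group
        _ = e₀⁻¹ := by rw [hre, ((hre2.pow_left k).inv_right).eq, mul_inv_cancel_right]
    have he01 : e₀ = 1 := hD2 e₀ he0D (by
      calc e₀ * e₀ = e₀ * e₀⁻¹ := by rw [← hfin]
        _ = 1 := mul_inv_cancel _)
    rw [he₀, mul_eq_one_iff_eq_inv] at he01
    rw [he01, hwi']
  -- `D` is transitive on them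
  obtain ⟨w₀, hw₀⟩ : Sw.Nonempty := Set.nonempty_of_ncard_ne_zero (by rw [hSwcard]; norm_num)
  have hdvd : 1463 ∣ Nat.card D := by
    have heq : Sw = {v : G | ∃ d ∈ D, d * w₀ * d⁻¹ = v} := by
      refine Set.ext fun w => ⟨fun hw => ?_, ?_⟩
      · set e := w₀ * w with he
        have heD : e ∈ D := hSwD w₀ hw₀ w hw
        have hw0i : w₀⁻¹ = w₀ := inv_eq_of_mul_eq_one_right hw₀.1
        have hwi : w⁻¹ = w := inv_eq_of_mul_eq_one_right hw.1
        obtain ⟨k, hk⟩ := hDodd.of_dvd_nat (Subgroup.orderOf_dvd_natCard D heD)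
        have hinv : w₀ * e * w₀⁻¹ = e⁻¹ := by
          rw [he, mul_inv_rev, hwi, hw0i, ← mul_assoc, hw₀.1, one_mul]
        have hinvk : w₀ * (e ^ k)⁻¹ * w₀⁻¹ = e ^ k := by
          have h1 : w₀ * e ^ k * w₀⁻¹ = (e ^ k)⁻¹ := by rw [← conj_pow, hinv, inv_pow]
          calc w₀ * (e ^ k)⁻¹ * w₀⁻¹ = (w₀ * e ^ k * w₀⁻¹)⁻¹ := by group
            _ = e ^ k := by rw [h1, inv_inv]
        refine ⟨e ^ k, pow_mem heD k, ?_⟩
        calc e ^ k * w₀ * (e ^ k)⁻¹ = e ^ k * (w₀ * (e ^ k)⁻¹ * w₀⁻¹) * w₀ := by group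
          _ = e ^ (2 * k) * w₀ := by rw [hinvk, two_mul, pow_add]
          _ = e ^ (2 * k + 1) * (e⁻¹ * w₀) := by rw [pow_succ]; group
          _ = w := by
            rw [← hk, pow_orderOf_eq_one, one_mul, he, mul_inv_rev, hwi, hw0i, mul_assoc, hw₀.1,
              mul_one]
      · rintro ⟨d, hd, rfl⟩
        refine ⟨?_, fun e => hw₀.2.1 (conj_eq_one_iff.1 e), ?_⟩
        · calc d * w₀ * d⁻¹ * (d * w₀ * d⁻¹) = d * (w₀ * w₀) * d⁻¹ := by group
            _ = 1 := by rw [hw₀.1, mul_one, mul_inv_cancel]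
        · have := mul_mem (mul_mem ((hDmem d).1 hd).2 hw₀.2.2) (inv_mem ((hDmem d).1 hd).1)
          simpa [mul_assoc] using this
    rw [heq, ncard_conj_eq_relIndex] at hSwcard
    exact hSwcard ▸ index_dvd_card _
  -- the odd factor meets its conjugate trivially
  have hJK : ∀ j ∈ J, ∀ k ∈ K, j * k = k * j := by
    intro j hj k hk
    have hJKbot : ∀ x ∈ J, x ∈ K → x = 1 := by
      haveI := hJs
      intro x hxJ hxK
      haveI : (K.subgroupOf J).Normal := ⟨fun y hy z => by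
        rw [mem_subgroupOf] at hy ⊢
        exact (mem_normalizer_iff.1 (hJH z.2) _).1 hy⟩
      rcases (inferInstance : (K.subgroupOf J).Normal).eq_bot_or_eq_top with h1 | h1
      · have : (⟨x, hxJ⟩ : J) ∈ K.subgroupOf J := hxK
        rw [h1, mem_bot] at this
        exact congrArg Subtype.val this
      · exact absurd (show (⟨t, htJ⟩ : J) ∈ K.subgroupOf J by rw [h1]; exact mem_top _) htK
    have h1 : j * k * j⁻¹ * k⁻¹ = 1 := by
      refine hJKbot _ ?_ (mul_mem ((mem_normalizer_iff.1 (hJH hj) _).1 hk) (inv_mem hk))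
      have e : j * k * j⁻¹ * k⁻¹ = j * (k * j⁻¹ * k⁻¹) := by group
      rw [e]
      exact mul_mem hj (hJn k (le_normalizer hk) _ (inv_mem hj))
    calc j * k = (j * k * j⁻¹ * k⁻¹) * k * j := by group
      _ = k * j := by rw [h1, one_mul]
  have hKK : ∀ k ∈ K, g⁻¹ * k * g ∈ K → k = 1 := by
    intro k hk hgk
    by_contra hk1
    set U := centralizer ({k} : Set G) with hU
    have hJU : J ≤ U := fun j hj => mem_centralizer_singleton_iff.2 (hJK j hj k hk)
    have hUne : U ≠ ⊤ := fun e => by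
      haveI : (zpowers k).Normal := ⟨fun x hx y => by
        obtain ⟨i, rfl⟩ := mem_zpowers_iff.1 hx
        have hy : Commute y k := mem_centralizer_singleton_iff.1 (e ▸ mem_top y : y ∈ U)
        rw [(hy.zpow_right i).eq, mul_inv_cancel_right]
        exact zpow_mem (mem_zpowers k) i⟩
      rcases (inferInstance : (zpowers k).Normal).eq_bot_or_eq_top with h1 | h1
      · exact hk1 (zpowers_eq_bot.1 h1)
      · exact htK ((zpowers_le.2 hk) (h1 ▸ mem_top t))
    have hSU : (S : Subgroup G) ≤ U := fun s hs => mem_centralizer_singleton_iff.2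
      (mem_centralizer_iff.1 (hKC hk) s (hSV ▸ hs))
    have hfU : ∀ v ∈ Vg S t, v ≠ 1 → ∃ r ∈ U, r * t * r⁻¹ = v := fun v hv hv1 => by
      obtain ⟨j, hj, e⟩ := hinvH v (hSH hv.1) (C.V_sq hv) hv1
      exact ⟨j, hJU hj, e⟩
    obtain ⟨JU, -, -, hUcard, -, -, -, -, -, hUclass, -, -⟩ :=
      sub_core IH h C hUne hSU (hWJ.trans hJU) hfU
    have hsub : J ≤ JU := hJgen JU fun j hj => hUclass j
      (mul_mem (mul_mem (hJU hj) (hJU htJ)) (inv_mem (hJU hj)))
    have hJeq : J = JU := Subgroup.eq_of_le_of_card_ge hsub (by rw [hJcard, hUcard])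
    have ht' : g * t * g⁻¹ ∈ U := by
      refine mem_centralizer_singleton_iff.2 ?_
      have h1 := hKt _ hgk
      calc g * t * g⁻¹ * k = g * (t * (g⁻¹ * k * g)) * g⁻¹ := by group
        _ = g * ((g⁻¹ * k * g) * t) * g⁻¹ := by rw [h1]
        _ = k * (g * t * g⁻¹) := by group
    have ht2 : g * t * g⁻¹ * (g * t * g⁻¹) = 1 := by
      calc g * t * g⁻¹ * (g * t * g⁻¹) = g * (t * t) * g⁻¹ := by group
        _ = 1 := by rw [C.tt, mul_one, mul_inv_cancel]
    refine hg (hSE g (g * t * g⁻¹) ht2 (fun e => C.t_ne_one (conj_eq_one_iff.1 e))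
      (hJH (hJeq ▸ hUclass g ht')) ?_)
    have e : g⁻¹ * (g * t * g⁻¹) * g = t := by group
    rw [e]; exact htH
  -- the projection of `H` onto `J`
  obtain ⟨φ, hφ⟩ : ∃ φ : ↥H →* Cfsg.Spor.J1, ∀ x, φ x = 1 ↔ (x : G) ∈ K := by
    haveI : (K.subgroupOf H).Normal := ⟨fun y hy z => by
      rw [mem_subgroupOf] at hy ⊢
      exact (mem_normalizer_iff.1 z.2 _).1 hy⟩
    set π := QuotientGroup.mk' (K.subgroupOf H) with hπ
    have hb : Function.Bijective (π.comp (Subgroup.inclusion hJH)) := by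
      constructor
      · rw [injective_iff_map_eq_one]
        intro x hx
        have hxK : (x : G) ∈ K :=
          (QuotientGroup.eq_one_iff (Subgroup.inclusion hJH x)).1 hx
        refine Subtype.ext ?_
        haveI := hJs
        haveI : (K.subgroupOf J).Normal := ⟨fun y hy z => by
          rw [mem_subgroupOf] at hy ⊢
          exact (mem_normalizer_iff.1 (hJH z.2) _).1 hy⟩
        rcases (inferInstance : (K.subgroupOf J).Normal).eq_bot_or_eq_top with h1 | h1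
        · have : x ∈ K.subgroupOf J := hxK
          rw [h1, mem_bot] at this
          exact congrArg Subtype.val this
        · exact absurd (show (⟨t, htJ⟩ : J) ∈ K.subgroupOf J by rw [h1]; exact mem_top _) htK
      · intro q
        obtain ⟨x, rfl⟩ := QuotientGroup.mk'_surjective (K.subgroupOf H) q
        obtain ⟨j, hj, hjx⟩ := hinvH ((x : G) * t * (x : G)⁻¹)
          (mul_mem (mul_mem x.2 htH) (inv_mem x.2))
          (by
            calc (x : G) * t * (x : G)⁻¹ * ((x : G) * t * (x : G)⁻¹)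
                = (x : G) * (t * t) * (x : G)⁻¹ := by group
              _ = 1 := by rw [C.tt, mul_one, mul_inv_cancel])
          (fun e => C.t_ne_one (conj_eq_one_iff.1 e))
        obtain ⟨w, hw, k, hk, hwk⟩ := hdec (j⁻¹ * x) (by
          calc j⁻¹ * x * t = j⁻¹ * ((x : G) * t * (x : G)⁻¹) * x := by group
            _ = t * (j⁻¹ * x) := by rw [← hjx]; group)
        refine ⟨⟨j * w, mul_mem hj (hWJ hw)⟩, QuotientGroup.eq.2 ?_⟩
        rw [mem_subgroupOf]
        push_cast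
        have : (j * w)⁻¹ * (x : G) = k := by
          calc (j * w)⁻¹ * (x : G) = w⁻¹ * (j⁻¹ * x) := by group
            _ = k := by rw [hwk, inv_mul_cancel_left]
        exact this ▸ hk
    let e := (MulEquiv.ofBijective _ hb).symm.trans f₁
    exact ⟨e.toMonoidHom.comp π, fun x => (map_eq_one_iff e e.injective).trans
      ((QuotientGroup.eq_one_iff x).trans Iff.rfl)⟩
  -- counting
  haveI : Finite Cfsg.Spor.J1 :=
    Nat.finite_of_card_ne_zero (by rw [SporB.J1.card_J1]; norm_num)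
  let f : D →* Cfsg.Spor.J1 := φ.comp (Subgroup.inclusion inf_le_left)
  let f' : D →* Cfsg.Spor.J1 := φ.comp
    { toFun := fun d => ⟨g⁻¹ * (d : G) * g, ((hDmem d).1 d.2).2⟩
      map_one' := Subtype.ext (by simp)
      map_mul' := fun a b => Subtype.ext (by push_cast; group) }
  have hker : Function.Injective (f'.comp f.ker.subtype) := by
    rw [injective_iff_map_eq_one]
    rintro ⟨d, hd⟩ e
    have h1 : (d : G) ∈ K := (hφ _).1 hd
    have h2 : g⁻¹ * (d : G) * g ∈ K := (hφ _).1 e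
    exact Subtype.ext (Subtype.ext (hKK _ h1 h2))
  have hb1 := odd_subgroup_bound f.range.subtype f.range.subtype_injective
    (hDodd.of_dvd_nat (card_range_dvd f))
  have hb2 := odd_subgroup_bound (f'.comp f.ker.subtype) hker
    (hDodd.of_dvd_nat (card_subgroup_dvd_card f.ker))
  have hcard : Nat.card D = Nat.card f.ker * Nat.card f.range := by
    rw [← Subgroup.index_ker, Subgroup.card_mul_index]
  rw [hcard] at hdvd
  have hsplit : ∀ p : ℕ, p.Prime → p ∣ 1463 →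
      p ∣ Nat.card f.ker ∨ p ∣ Nat.card f.range := fun p hp hpd =>
    hp.dvd_mul.1 (hpd.trans hdvd)
  rcases hsplit 7 (by norm_num) (by norm_num) with h7 | h7 <;>
    rcases hsplit 11 (by norm_num) (by norm_num) with h11 | h11 <;>
    rcases hsplit 19 (by norm_num) (by norm_num) with h19 | h19 <;>
    first
      | exact hb1.1 ⟨h7, h11⟩ | exact hb1.2.1 ⟨h7, h19⟩ | exact hb1.2.2 ⟨h11, h19⟩
      | exact hb2.1 ⟨h7, h11⟩ | exact hb2.2.1 ⟨h7, h19⟩ | exact hb2.2.2 ⟨h11, h19⟩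

end Cfsg.Agent.TwoWeak
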