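import Cfsg.Agent.TwoWeak.Local

/-!
`V = S ∩ W` is weakly closed and central in `S`, and its normaliser controls fusion in `S`.
-/

set_option autoImplicit false

namespace Cfsg.Agent.TwoWeak

open Subgroup
open Cfsg.Agent.J1Unique

variable {G : Type*} [Group G] [Finite G] {S : Sylow 2 G} {t : G}

theorem isPGroup_zpowers_two {x : G} (hx : x * x = 1) : IsPGroup 2 (zpowers x) := by
  rintro ⟨y, hy⟩
  obtain ⟨k, rfl⟩ := mem_zpowers_iff.1 hy
  refine ⟨1, Subtype.ext ?_⟩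
  show (x ^ k) ^ (2 ^ 1) = 1
  rw [← zpow_natCast, ← zpow_mul, mul_comm, zpow_mul, zpow_natCast, pow_one, pow_two, hx, one_zpow]

namespace Coord

variable (C : Coord S t)

include C

theorem conj_into_S {P : Subgroup G} (hP : IsPGroup 2 P)
    (hPC : P ≤ centralizer ({t} : Set G)) :
    ∃ c : G, c * t = t * c ∧ ∀ x ∈ P, c * x * c⁻¹ ∈ (S : Subgroup G) := by
  haveI : Fact (Nat.Prime 2) := ⟨Nat.prime_two⟩
  set CT := centralizer ({t} : Set G) with hCT
  obtain ⟨Q, hQ⟩ := (hP.of_equiv (subgroupOfEquivOfLe hPC).symm).exists_le_sylow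
  obtain ⟨c, hc⟩ := MulAction.exists_smul_eq CT Q (S.subtype C.le_centralizer)
  refine ⟨(c : G), mem_centralizer_singleton_iff.1 c.2, fun x hx => ?_⟩
  have hxQ : (⟨x, hPC hx⟩ : CT) ∈ (Q : Subgroup CT) := hQ hx
  have : c * ⟨x, hPC hx⟩ * c⁻¹ ∈ ((S.subtype C.le_centralizer : Sylow 2 CT) : Subgroup CT) := by
    rw [← hc, Sylow.coe_subgroup_smul, Subgroup.mem_pointwise_smul_iff_inv_smul_mem]
    simpa [mul_assoc] using hxQ
  exact this

theorem conj_t_mem_V {g : G} (h : g * t * g⁻¹ ∈ (S : Subgroup G)) : g * t * g⁻¹ ∈ Vg S t :=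
  ⟨h, conj_mem_wcl (C.le _ h)⟩

theorem V_isPGroup : IsPGroup 2 (Vg S t) := S.isPGroup'.to_le inf_le_left

theorem exists_ne_conj : ∃ x ∈ Vg S t, x ≠ t ∧ ∃ g, g * t * g⁻¹ = x := by
  by_contra! hno
  have hle : wcl t ≤ zpowers t := by
    rw [wcl, closure_le]
    rintro x ⟨g, rfl, hgt⟩
    have hsq : g * t * g⁻¹ * (g * t * g⁻¹) = 1 := by
      calc g * t * g⁻¹ * (g * t * g⁻¹) = g * (t * t) * g⁻¹ := by group
        _ = 1 := by rw [C.tt, mul_one, mul_inv_cancel]
    obtain ⟨c, hc, hcS⟩ := C.conj_into_S (isPGroup_zpowers_two hsq) (by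
      rw [zpowers_le]; exact mem_centralizer_singleton_iff.2 hgt)
    have h1 : c * g * t * (c * g)⁻¹ ∈ (S : Subgroup G) := by
      have := hcS _ (mem_zpowers (g * t * g⁻¹))
      simpa [mul_assoc] using this
    have h2 : c * g * t * (c * g)⁻¹ = t := by
      by_contra hne
      exact hno _ (C.conj_t_mem_V h1) hne (c * g) rfl
    have h3 : g * t * g⁻¹ = t := by
      calc g * t * g⁻¹ = c⁻¹ * (c * g * t * (c * g)⁻¹) * c := by group
        _ = c⁻¹ * (t * c) := by rw [h2, mul_assoc]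
        _ = t := by rw [← hc, inv_mul_cancel_left]
    rw [h3]; exact mem_zpowers t
  obtain ⟨k, hk⟩ := mem_zpowers_iff.1 (hle (C.ι_mem_W aR))
  rcases Int.even_or_odd k with ⟨j, rfl⟩ | ⟨j, rfl⟩
  · rw [← two_mul, zpow_mul, zpow_two, C.tt, one_zpow] at hk
    exact aR_ne.1 (C.inj (hk.symm.trans (map_one _).symm))
  · rw [zpow_add_one, zpow_mul, zpow_two, C.tt, one_zpow, one_mul] at hk
    exact C.ne aR hk.symm

theorem normalizes_of_le {g : G} (h : ∀ v ∈ Vg S t, g * v * g⁻¹ ∈ Vg S t) :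
    g ∈ normalizer (Vg S t : Set G) :=
  ProdFusion.normalizer_of_conj_mem h

theorem sylow_normalizes : (S : Subgroup G) ≤ normalizer (Vg S t : Set G) := fun s hs =>
  C.normalizes_of_le fun _ hv =>
    ⟨mul_mem (S := Subgroup G) (mul_mem (S := Subgroup G) hs hv.1) (inv_mem hs),
      conj_wcl_of_commute (C.le s hs) hv.2⟩

theorem odd_relIndex_normalizer :
    Odd ((centralizer ({t} : Set G)).relIndex (normalizer (Vg S t : Set G))) := by
  haveI : Fact (Nat.Prime 2) := ⟨Nat.prime_two⟩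
  set N := normalizer (Vg S t : Set G)
  set CT := centralizer ({t} : Set G)
  have h2 := relIndex_mul_index (inf_le_right : CT ⊓ N ≤ N)
  rw [inf_relIndex_right] at h2
  have hd : CT.relIndex N ∣ (S : Subgroup G).index :=
    (Dvd.intro _ h2).trans (index_dvd_of_le (le_inf C.le_centralizer C.sylow_normalizes))
  refine Odd.of_dvd_nat ?_ hd
  rw [← Nat.not_even_iff_odd, even_iff_two_dvd]
  exact S.not_dvd_index

theorem fused : ∀ v ∈ Vg S t, v ≠ 1 → ∃ n ∈ normalizer (Vg S t : Set G), n * t * n⁻¹ = v := by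
  refine C.full_of_orbit le_rfl C.aC_normalizes C.odd_relIndex_normalizer ?_
  obtain ⟨x, hxV, hxt, g, hg⟩ := C.exists_ne_conj
  set f := g⁻¹
  have hfx : f * x * f⁻¹ = t := by rw [← hg]; simp [f, mul_assoc]
  have hx1 : x ≠ 1 := fun h => C.t_ne_one (conj_eq_one_iff.1 (hg.trans h))
  set U := (wcl t).comap (MulAut.conj f).toMonoidHom with hU
  have hmemU : ∀ w, w ∈ U ↔ f * w * f⁻¹ ∈ wcl t := fun w => by simp [hU]
  -- conjugates of `t` in `V` go into `W`
  have hD : ∀ (k : G), k * t * k⁻¹ ∈ Vg S t → k * t * k⁻¹ ∈ U := by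
    intro k hk
    rw [hmemU]
    have e : f * (k * t * k⁻¹) * f⁻¹ = (f * k) * t * (f * k)⁻¹ := by group
    rw [e]
    refine conj_mem_wcl ?_
    rw [← e]
    have h0 : f * (k * t * k⁻¹) * f⁻¹ * (f * x * f⁻¹) =
        f * x * f⁻¹ * (f * (k * t * k⁻¹) * f⁻¹) := by
      calc f * (k * t * k⁻¹) * f⁻¹ * (f * x * f⁻¹) = f * (k * t * k⁻¹ * x) * f⁻¹ := by group
      _ = f * (x * (k * t * k⁻¹)) * f⁻¹ := by rw [C.V_comm hk hxV]
      _ = f * x * f⁻¹ * (f * (k * t * k⁻¹) * f⁻¹) := by group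
    rwa [hfx] at h0
  have htU : t ∈ U := by
    have := hD 1 (by simpa using C.t_mem_V)
    simpa using this
  -- the subgroup generated by the conjugates of `t` in `V`
  set D : Subgroup G := closure {v | v ∈ Vg S t ∧ ∃ k, k * t * k⁻¹ = v} with hDdef
  have hDU : D ≤ U := by
    rw [hDdef, closure_le]
    rintro v ⟨hv, k, rfl⟩
    exact hD k hv
  have hVD : Vg S t ≤ D := by
    refine C.V_le_of_mem (subset_closure ⟨C.t_mem_V, 1, by group⟩) ?_ hxV
      (subset_closure ⟨hxV, g, hg⟩) hx1 hxt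
    intro v hvV hvD
    clear hDU hvV
    rw [hDdef] at hvD ⊢
    induction hvD using closure_induction with
    | mem v hv =>
      obtain ⟨hv, k, rfl⟩ := hv
      exact subset_closure
        ⟨(mem_normalizer_iff.1 C.aC_normalizes _).1 hv, C.ι aC * k, by group⟩
    | one => simp [one_mem]
    | mul u w _ _ iu iw =>
      have e : C.ι aC * (u * w) * (C.ι aC)⁻¹ =
          (C.ι aC * u * (C.ι aC)⁻¹) * (C.ι aC * w * (C.ι aC)⁻¹) := by group
      rw [e]; exact mul_mem iu iw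
    | inv u _ iu =>
      have e : C.ι aC * u⁻¹ * (C.ι aC)⁻¹ = (C.ι aC * u * (C.ι aC)⁻¹)⁻¹ := by group
      rw [e]; exact inv_mem iu
  have hVW : (Vg S t).map (MulAut.conj f).toMonoidHom ≤ wcl t := by
    rw [map_le_iff_le_comap]; exact hVD.trans hDU
  obtain ⟨c, hc, hcS⟩ := C.conj_into_S
    ((C.V_isPGroup).map (MulAut.conj f).toMonoidHom)
    (hVW.trans (wcl_le_centralizer t))
  have hn : c * f ∈ normalizer (Vg S t : Set G) := C.normalizes_of_le fun v hv => by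
    have hm : f * v * f⁻¹ ∈ (Vg S t).map (MulAut.conj f).toMonoidHom := ⟨v, hv, by simp⟩
    have e : c * f * v * (c * f)⁻¹ = c * (f * v * f⁻¹) * c⁻¹ := by group
    rw [e]
    exact ⟨hcS _ hm, conj_wcl_of_commute hc (hVW hm)⟩
  refine ⟨(c * f)⁻¹, inv_mem hn, fun h => hxt ?_⟩
  have e : c * f * x * (c * f)⁻¹ = t := by
    calc c * f * x * (c * f)⁻¹ = c * (f * x * f⁻¹) * c⁻¹ := by group
      _ = t := by rw [hfx, hc, mul_inv_cancel_right]
  calc x = (c * f)⁻¹ * (c * f * x * (c * f)⁻¹) * (c * f)⁻¹⁻¹ := by group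
    _ = t := by rw [e, h]

/-- `V` is weakly closed: all its conjugates in `S` lie in it. -/
theorem conj_mem_V {v g : G} (hv : v ∈ Vg S t) (h : g * v * g⁻¹ ∈ (S : Subgroup G)) :
    g * v * g⁻¹ ∈ Vg S t := by
  rcases eq_or_ne v 1 with rfl | hv1
  · simp [one_mem]
  · obtain ⟨n, -, rfl⟩ := C.fused v hv hv1
    have e : g * (n * t * n⁻¹) * g⁻¹ = g * n * t * (g * n)⁻¹ := by group
    rw [e] at h ⊢
    exact C.conj_t_mem_V h

/-- Conjugation by an element centralising `t` acts on the `A₅` as a permutation. -/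
theorem exists_perm {c : G} (hc : c * t = t * c) :
    ∃ p : Equiv.Perm (Fin 5), ∀ a, c * C.ι a * c⁻¹ = C.ι (tw p a) := by
  have hW : ∀ a, ∃ b, c * C.ι a * c⁻¹ = C.ι b ∨ c * C.ι a * c⁻¹ = t * C.ι b := fun a =>
    (C.mem_W _).1 (conj_wcl_of_commute hc (C.ι_mem_W a))
  have hsq : ∀ b, c * C.ι (b * b) * c⁻¹ ∈ C.ι.range := by
    intro b
    have e : c * C.ι (b * b) * c⁻¹ = (c * C.ι b * c⁻¹) * (c * C.ι b * c⁻¹) := by
      rw [map_mul]; group
    obtain ⟨d, hd | hd⟩ := hW b <;> rw [e, hd]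
    · exact ⟨d * d, map_mul _ _ _⟩
    · exact ⟨d * d, (C.tι_mul d d).symm⟩
  have hr : ∀ a, ∃ b, c * C.ι a * c⁻¹ = C.ι b := by
    intro a
    obtain ⟨b, d, rfl⟩ := sq_prod a
    obtain ⟨u, hu⟩ := mul_mem (hsq b) (hsq d)
    exact ⟨u, by rw [hu, map_mul]; group⟩
  choose φ hφ using hr
  let f : A5 →* A5 := MonoidHom.mk' φ fun a b => C.inj (by
    rw [map_mul, ← hφ, ← hφ, ← hφ, map_mul]; group)
  have hf : Function.Bijective f := Finite.injective_iff_bijective.1 fun a b h => C.inj (by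
    have h' : c * C.ι a * c⁻¹ = c * C.ι b * c⁻¹ := by
      rw [hφ, hφ]; exact congrArg C.ι h
    exact mul_left_cancel (mul_right_cancel h'))
  obtain ⟨p, hp⟩ := exists_tw (MulEquiv.ofBijective f hf)
  exact ⟨p, fun a => by rw [hp, hφ]; rfl⟩

theorem perm_inV {c : G} (hc : c ∈ normalizer (Vg S t : Set G)) {p : Equiv.Perm (Fin 5)}
    (hp : ∀ a, c * C.ι a * c⁻¹ = C.ι (tw p a)) : ∀ a, InV a → InV (tw p a) := fun a ha =>
  (C.four _).1 (hp a ▸ ((mem_normalizer_iff.1 hc _).1 (C.ι_mem_V ha)).1)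

theorem perm_pow {c : G} {p : Equiv.Perm (Fin 5)} (hp : ∀ a, c * C.ι a * c⁻¹ = C.ι (tw p a))
    (n : ℕ) : ∀ a, c ^ n * C.ι a * (c ^ n)⁻¹ = C.ι (tw (p ^ n) a) := by
  induction n with
  | zero => intro a; simp [tw]
  | succ n ih =>
    intro a
    rw [pow_succ', pow_succ', tw_mul, ← hp, ← ih]
    group

theorem perm_one {p : Equiv.Perm (Fin 5)} (hp : ∀ a, C.ι a = C.ι (tw p a)) : p = 1 := by
  refine tw_injective (MulEquiv.ext fun a => ?_)
  rw [tw_one]
  exact (C.inj (hp a)).symm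

theorem perm_pow_eight {s : G} (hs : s ∈ (S : Subgroup G)) {p : Equiv.Perm (Fin 5)}
    (hp : ∀ a, s * C.ι a * s⁻¹ = C.ι (tw p a)) : p ^ 8 = 1 := by
  haveI : Fact (Nat.Prime 2) := ⟨Nat.prime_two⟩
  obtain ⟨k, hk⟩ := S.isPGroup' ⟨s, hs⟩
  have hk' : s ^ 2 ^ k = 1 := congrArg Subtype.val hk
  have h2 : p ^ 2 ^ k = 1 := C.perm_one fun a => by
    rw [← C.perm_pow hp, hk', one_mul, inv_one, mul_one]
  refine orderOf_dvd_iff_pow_eq_one.1 ?_
  obtain ⟨j, -, hj⟩ := (Nat.dvd_prime_pow Nat.prime_two).1 (orderOf_dvd_of_pow_eq_one h2)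
  have h120 : orderOf p ∣ 120 := by
    have := orderOf_dvd_natCard p
    rwa [Nat.card_perm, Nat.card_fin] at this
  rw [hj] at h120 ⊢
  rcases Nat.lt_or_ge j 4 with h | h
  · exact pow_dvd_pow 2 (by omega : j ≤ 3)
  · exact absurd ((pow_dvd_pow 2 h).trans h120) (by decide)

/-- `V` is central in `S`. -/
theorem V_central {s v : G} (hs : s ∈ (S : Subgroup G)) (hv : v ∈ Vg S t) : s * v = v * s := by
  obtain ⟨p, hp⟩ := C.exists_perm (C.le s hs)
  have hpV := C.perm_inV (C.sylow_normalizes hs) hp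
  by_cases hfixed : tw p aR = aR ∧ tw p aS = aS
  · obtain ⟨hR, hS⟩ := hfixed
    obtain ⟨a, ha, h⟩ := C.mem_V.1 hv
    have h1 : Commute s (C.ι a) := by
      have := hp a
      rw [tw_fix_inV hR hS a ha] at this
      exact mul_inv_eq_iff_eq_mul.1 this
    rcases h with rfl | rfl
    · exact h1.eq
    · exact ((show Commute s t from C.le s hs).mul_right h1).eq
  exfalso
  obtain ⟨v₀, hv₀, hv₀1, hfix, hmv⟩ := (two_element_case p (C.perm_pow_eight hs hp)
    (hpV _ (Or.inr (Or.inl rfl))) (hpV _ (Or.inr (Or.inr (Or.inl rfl))))).resolve_left hfixed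
  set a := C.ι v₀ with ha
  have hsa : Commute s a := by
    have := hp v₀
    rw [hfix] at this
    exact mul_inv_eq_iff_eq_mul.1 this
  have ha1 : a ≠ 1 := fun h => hv₀1 (C.inj (h.trans (map_one _).symm))
  obtain ⟨n, hn, hna⟩ := C.fused a (C.ι_mem_V hv₀) ha1
  -- every conjugate of the four group moved by `s` contains `a`
  have key : ∀ w, InV w → Commute s (n * C.ι w * n⁻¹) := by
    intro w hw
    set y := n * C.ι w * n⁻¹ with hy
    have hyV : y ∈ Vg S t := (mem_normalizer_iff.1 hn _).1 (C.ι_mem_V hw)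
    by_contra hne
    have hmov : s * y * s⁻¹ ≠ y := fun h => hne (mul_inv_eq_iff_eq_mul.1 h)
    obtain ⟨u, hu, hyu⟩ := C.mem_V.1 hyV
    have hya : y * (s * y * s⁻¹) = a := by
      have hsy : y = C.ι u ∧ s * y * s⁻¹ = C.ι (tw p u) ∨
          y = t * C.ι u ∧ s * y * s⁻¹ = t * C.ι (tw p u) := by
        rcases hyu with h | h
        · exact Or.inl ⟨h, by rw [h, hp]⟩
        · refine Or.inr ⟨h, ?_⟩
          rw [h, ← hp]
          calc s * (t * C.ι u) * s⁻¹ = (s * t) * C.ι u * s⁻¹ := by group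
            _ = t * (s * C.ι u * s⁻¹) := by rw [C.le s hs]; group
      have hu' : u * tw p u = v₀ := by
        refine (hmv u hu).resolve_left fun h => hmov ?_
        rcases hsy with ⟨h1, h2⟩ | ⟨h1, h2⟩ <;> rw [h2, h, ← h1]
      rcases hsy with ⟨h1, h2⟩ | ⟨h1, h2⟩
      · rw [h2, h1, ← map_mul, hu']
      · rw [h2, h1, C.tι_mul, hu']
    -- `n⁻¹ s n` centralises `t` and so normalises the `A₅`
    have hct : n⁻¹ * s * n * t = t * (n⁻¹ * s * n) := by
      calc n⁻¹ * s * n * t = n⁻¹ * (s * (n * t * n⁻¹)) * n := by group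
        _ = n⁻¹ * ((n * t * n⁻¹) * s) * n := by rw [hna, hsa.eq]
        _ = _ := by group
    obtain ⟨q, hq⟩ := C.exists_perm hct
    have : t = C.ι (w * tw q w) := by
      calc t = n⁻¹ * a * n := by rw [← hna]; group
        _ = n⁻¹ * (y * (s * y * s⁻¹)) * n := by rw [hya]
        _ = C.ι w * (n⁻¹ * s * n * C.ι w * (n⁻¹ * s * n)⁻¹) := by rw [hy]; group
        _ = _ := by rw [hq, map_mul]
    exact C.ne _ this.symm
  have hall : ∀ u, InV u → Commute s (C.ι u) := by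
    intro u hu
    have hz : n⁻¹ * C.ι u * n ∈ Vg S t := by
      have := (mem_normalizer_iff.1 (inv_mem hn) _).1 (C.ι_mem_V hu)
      simpa using this
    obtain ⟨w, hw, h⟩ := C.mem_V.1 hz
    rcases h with h | h
    · have e : C.ι u = n * C.ι w * n⁻¹ := by rw [← h]; group
      exact e ▸ key w hw
    · have e : C.ι u = a * (n * C.ι w * n⁻¹) := by
        calc C.ι u = n * (n⁻¹ * C.ι u * n) * n⁻¹ := by group
          _ = n * (t * C.ι w) * n⁻¹ := by rw [h]
          _ = (n * t * n⁻¹) * (n * C.ι w * n⁻¹) := by group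
          _ = _ := by rw [hna]
      exact e ▸ hsa.mul_right (key w hw)
  have hfixall : ∀ u, InV u → tw p u = u := fun u hu =>
    C.inj (by rw [← hp, (hall u hu).eq, mul_inv_cancel_right])
  exact hfixed ⟨hfixall aR (Or.inr (Or.inl rfl)), hfixall aS (Or.inr (Or.inr (Or.inl rfl)))⟩

theorem le_centralizer_V : (S : Subgroup G) ≤ centralizer (Vg S t : Set G) := fun _ hs =>
  mem_centralizer_iff.2 fun _ hv => (C.V_central hs hv).symm

/-- The normaliser of `V` controls fusion in `S`. -/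
theorem exists_normalizer_conj {x g : G} (hx : x ∈ (S : Subgroup G))
    (hy : g * x * g⁻¹ ∈ (S : Subgroup G)) :
    ∃ n ∈ normalizer (Vg S t : Set G), n * x * n⁻¹ = g * x * g⁻¹ := by
  haveI : Fact (Nat.Prime 2) := ⟨Nat.prime_two⟩
  set CY := centralizer ({g * x * g⁻¹} : Set G) with hCY
  have hV : Vg S t ≤ CY := fun v hv =>
    mem_centralizer_singleton_iff.2 (C.V_central hy hv).symm
  set V' := (Vg S t).map (MulAut.conj g).toMonoidHom with hV'
  have hgV : V' ≤ CY := by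
    rintro _ ⟨v, hv, rfl⟩
    refine mem_centralizer_singleton_iff.2 ?_
    have h : Commute v x := (C.V_central hx hv).symm
    exact (h.map (MulAut.conj g).toMonoidHom).eq
  obtain ⟨Q, hQ⟩ := (C.V_isPGroup.of_equiv (subgroupOfEquivOfLe hV).symm).exists_le_sylow
  obtain ⟨P, hP⟩ :=
    ((C.V_isPGroup.map _).of_equiv (subgroupOfEquivOfLe hgV).symm).exists_le_sylow
  obtain ⟨c, hc⟩ := MulAction.exists_smul_eq CY P Q
  obtain ⟨R, hR⟩ := (Q.2.map CY.subtype).exists_le_sylow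
  obtain ⟨h, hh⟩ := MulAction.exists_smul_eq G R S
  have hhS : ∀ q : CY, q ∈ (Q : Subgroup CY) → h * q * h⁻¹ ∈ (S : Subgroup G) := by
    intro q hq
    rw [← hh, Sylow.coe_subgroup_smul, Subgroup.mem_pointwise_smul_iff_inv_smul_mem]
    simpa [mul_assoc] using hR ⟨q, hq, rfl⟩
  have hhN : h ∈ normalizer (Vg S t : Set G) := C.normalizes_of_le fun v hv =>
    C.conj_mem_V hv (hhS ⟨v, hV hv⟩ (hQ hv))
  refine ⟨(c : G) * g, C.normalizes_of_le fun v hv => ?_, ?_⟩
  · have hm : g * v * g⁻¹ ∈ V' := ⟨v, hv, by simp⟩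
    have hq : c * ⟨g * v * g⁻¹, hgV hm⟩ * c⁻¹ ∈ (Q : Subgroup CY) := by
      rw [← hc, Sylow.coe_subgroup_smul, Subgroup.mem_pointwise_smul_iff_inv_smul_mem]
      simpa [mul_assoc] using hP (show (⟨g * v * g⁻¹, hgV hm⟩ : CY) ∈ V'.subgroupOf CY from hm)
    have h1 : h * ((c : G) * g) * v * (h * ((c : G) * g))⁻¹ ∈ (S : Subgroup G) := by
      have := hhS _ hq
      simpa [mul_assoc] using this
    have h2 := (mem_normalizer_iff.1 (inv_mem hhN) _).1 (C.conj_mem_V hv h1)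
    simpa [mul_assoc] using h2
  · calc (c : G) * g * x * ((c : G) * g)⁻¹ = (c : G) * (g * x * g⁻¹) * (c : G)⁻¹ := by group
      _ = g * x * g⁻¹ := by
          rw [mem_centralizer_singleton_iff.1 c.2, mul_inv_cancel_right]

/-- An element of `S` has its square centralising the `A₅`. -/
theorem sq_commute {s : G} (hs : s ∈ (S : Subgroup G)) (a : A5) :
    Commute (s * s) (C.ι a) := by
  obtain ⟨p, hp⟩ := C.exists_perm (C.le s hs)
  have hfix : ∀ u, InV u → tw p u = u := fun u hu =>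
    C.inj (by rw [← hp, C.V_central hs (C.ι_mem_V hu), mul_inv_cancel_right])
  have hpp := sq_eq_one_of_fix p (hfix _ (Or.inr (Or.inl rfl)))
    (hfix _ (Or.inr (Or.inr (Or.inl rfl))))
  have h := C.perm_pow hp 2 a
  rw [pow_two, pow_two, hpp, tw_one] at h
  exact mul_inv_eq_iff_eq_mul.1 h

theorem eq_one_or_t {g : G} (hg : g ∈ Vg S t) (hc : ∀ a, Commute g (C.ι a)) : g = 1 ∨ g = t := by
  obtain ⟨a, ha, h⟩ := C.mem_V.1 hg
  have hcomm : ∀ b, a * b = b * a := by
    intro b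
    refine C.inj ?_
    rw [map_mul, map_mul]
    rcases h with rfl | rfl
    · exact (hc b).eq
    · have h1 : Commute t⁻¹ (C.ι b) := (C.comm b).inv_left
      have := h1.mul_left (hc b)
      rw [inv_mul_cancel_left] at this
      exact this.eq
  have ha1 : a = 1 := eq_one_of_commute a (hcomm aR) (hcomm aC)
  subst ha1
  rcases h with rfl | rfl
  · exact Or.inl (map_one _)
  · exact Or.inr (by rw [map_one, mul_one])

/-- The squares of `S` generate a subgroup meeting `V` trivially. -/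
theorem squares_inf_V :
    closure {x : G | ∃ s ∈ (S : Subgroup G), x = s * s} ⊓ Vg S t = ⊥ := by
  haveI : Fact (Nat.Prime 2) := ⟨Nat.prime_two⟩
  set Q := closure {x : G | ∃ s ∈ (S : Subgroup G), x = s * s} with hQ
  have hcomm : ∀ g ∈ Q, ∀ a, Commute g (C.ι a) := by
    intro g hg a
    rw [hQ] at hg
    induction hg using closure_induction with
    | mem x hx => obtain ⟨s, hs, rfl⟩ := hx; exact C.sq_commute hs a
    | one => exact Commute.one_left _
    | mul x y _ _ ix iy => exact ix.mul_left iy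
    | inv x _ ix => exact ix.inv_left
  rw [Subgroup.eq_bot_iff_forall]
  rintro g ⟨hgQ, hgV⟩
  refine (C.eq_one_or_t hgV (hcomm g hgQ)).resolve_right ?_
  rintro rfl
  obtain ⟨g₀, hg₀, hne⟩ : ∃ g₀ ∈ normalizer (Vg S g : Set G), g₀ * g * g₀⁻¹ ≠ g := by
    obtain ⟨n, hn, hnv⟩ := C.fused _ (C.ι_mem_V (Or.inr (Or.inl rfl) : InV aR))
      (fun h => aR_ne.1 (C.inj (h.trans (map_one _).symm)))
    exact ⟨n, hn, fun h => C.ne aR (hnv.symm.trans h)⟩
  set CV := centralizer (Vg S g : Set G) with hCV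
  have hgS : ((g₀ • S : Sylow 2 G) : Subgroup G) ≤ CV := by
    intro y hy
    rw [Sylow.coe_subgroup_smul, Subgroup.mem_pointwise_smul_iff_inv_smul_mem] at hy
    have hy' : g₀⁻¹ * y * g₀ ∈ (S : Subgroup G) := by simpa [mul_assoc] using hy
    refine mem_centralizer_iff.2 fun v hv => ?_
    have hv' : g₀⁻¹ * v * g₀⁻¹⁻¹ ∈ Vg S g := (mem_normalizer_iff.1 (inv_mem hg₀) v).1 hv
    rw [inv_inv] at hv'
    have h := C.V_central hy' hv'
    calc v * y = g₀ * ((g₀⁻¹ * v * g₀) * (g₀⁻¹ * y * g₀)) * g₀⁻¹ := by group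
      _ = g₀ * ((g₀⁻¹ * y * g₀) * (g₀⁻¹ * v * g₀)) * g₀⁻¹ := by rw [h]
      _ = y * v := by group
  obtain ⟨c, hc⟩ := MulAction.exists_smul_eq CV ((g₀ • S).subtype hgS)
    (S.subtype C.le_centralizer_V)
  have hn : ∀ s ∈ (S : Subgroup G), (c : G) * g₀ * s * ((c : G) * g₀)⁻¹ ∈ (S : Subgroup G) := by
    intro s hs
    have hm : g₀ * s * g₀⁻¹ ∈ ((g₀ • S : Sylow 2 G) : Subgroup G) := by
      rw [Sylow.coe_subgroup_smul, Subgroup.mem_pointwise_smul_iff_inv_smul_mem]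
      simpa [mul_assoc] using hs
    have hq : c * ⟨g₀ * s * g₀⁻¹, hgS hm⟩ * c⁻¹ ∈
        ((S.subtype C.le_centralizer_V : Sylow 2 CV) : Subgroup CV) := by
      rw [← hc, Sylow.coe_subgroup_smul, Subgroup.mem_pointwise_smul_iff_inv_smul_mem]
      simpa [mul_assoc, mem_subgroupOf] using hm
    have : ((c * ⟨g₀ * s * g₀⁻¹, hgS hm⟩ * c⁻¹ : CV) : G) ∈ (S : Subgroup G) := hq
    simpa [mul_assoc] using this
  have hQn : ∀ y ∈ Q, (c : G) * g₀ * y * ((c : G) * g₀)⁻¹ ∈ Q := by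
    intro y hy
    rw [hQ] at hy ⊢
    induction hy using closure_induction with
    | mem x hx =>
      obtain ⟨s, hs, rfl⟩ := hx
      exact subset_closure ⟨_, hn s hs, by group⟩
    | one => simp [one_mem]
    | mul x y _ _ ix iy =>
      have e : (c : G) * g₀ * (x * y) * ((c : G) * g₀)⁻¹ = ((c : G) * g₀ * x * ((c : G) * g₀)⁻¹) *
          ((c : G) * g₀ * y * ((c : G) * g₀)⁻¹) := by group
      rw [e]; exact mul_mem ix iy
    | inv x _ ix =>
      have e : (c : G) * g₀ * x⁻¹ * ((c : G) * g₀)⁻¹ =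
          ((c : G) * g₀ * x * ((c : G) * g₀)⁻¹)⁻¹ := by group
      rw [e]; exact inv_mem ix
  have hv : g₀ * g * g₀⁻¹ ∈ Vg S g := (mem_normalizer_iff.1 hg₀ g).1 C.t_mem_V
  have e : (c : G) * g₀ * g * ((c : G) * g₀)⁻¹ = g₀ * g * g₀⁻¹ := by
    calc (c : G) * g₀ * g * ((c : G) * g₀)⁻¹ = (c : G) * (g₀ * g * g₀⁻¹) * (c : G)⁻¹ := by group
      _ = g₀ * g * g₀⁻¹ := by rw [← mem_centralizer_iff.1 c.2 _ hv, mul_inv_cancel_right]
  have h1 := hQn g hgQ
  rw [e] at h1
  rcases C.eq_one_or_t hv (hcomm _ h1) with h | h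
  · exact C.t_ne_one (conj_eq_one_iff.1 h)
  · exact hne h

end Coord

end Cfsg.Agent.TwoWeak
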