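import Cfsg.Agent.TwoWeak.Basic

/-!
The four-by-two group `V = S ∩ W`: it is weakly closed, central in `S` and its involutions are fused
by its normaliser.
-/

set_option autoImplicit false

namespace Cfsg.Agent.TwoWeak

open Subgroup
open Cfsg.Agent.J1Unique

variable {G : Type*} [Group G]

theorem inV_orbit : ∀ v : A5, InV v → v ≠ 1 → ∀ u : A5, InV u → u ≠ 1 →
    ∃ i : Fin 3, aC ^ (i : ℕ) * v * (aC ^ (i : ℕ))⁻¹ = u := by
  decide +kernel

theorem inV_pow_aC : ∀ v : A5, InV v → ∀ i : Fin 3, InV (aC ^ (i : ℕ) * v * (aC ^ (i : ℕ))⁻¹) := by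
  decide +kernel

/-- The intersection of the Sylow subgroup and the weak closure. -/
def Vg (S : Sylow 2 G) (t : G) : Subgroup G := (S : Subgroup G) ⊓ wcl t

/-- The number of conjugates of `t` under a subgroup. -/
theorem ncard_conj_eq_relIndex (R : Subgroup G) (t : G) :
    {v : G | ∃ r ∈ R, r * t * r⁻¹ = v}.ncard = (centralizer ({t} : Set G)).relIndex R := by
  rw [← Nat.card_coe_set_eq]
  refine (Nat.card_congr ?_).symm
  refine Equiv.ofBijective (Quotient.lift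
    (fun r : R => (⟨(r : G) * t * (r : G)⁻¹, r, r.2, rfl⟩ : {v : G | ∃ r ∈ R, r * t * r⁻¹ = v}))
    fun a b hab => ?_) ⟨?_, ?_⟩
  · have h : (a : G)⁻¹ * b ∈ centralizer ({t} : Set G) := by
      have := QuotientGroup.leftRel_apply.1 hab
      simpa [mem_subgroupOf] using this
    rw [mem_centralizer_singleton_iff] at h
    refine Subtype.ext ?_
    show (a : G) * t * (a : G)⁻¹ = b * t * (b : G)⁻¹
    calc (a : G) * t * (a : G)⁻¹ = a * (t * ((a : G)⁻¹ * b)) * (b : G)⁻¹ := by group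
      _ = a * ((a : G)⁻¹ * b * t) * (b : G)⁻¹ := by rw [h]
      _ = b * t * (b : G)⁻¹ := by group
  · intro x y h
    induction x using Quotient.inductionOn with | h a => ?_
    induction y using Quotient.inductionOn with | h b => ?_
    have h' : (a : G) * t * (a : G)⁻¹ = b * t * (b : G)⁻¹ := congrArg Subtype.val h
    refine Quotient.sound (QuotientGroup.leftRel_apply.2 ?_)
    rw [mem_subgroupOf, mem_centralizer_singleton_iff]
    push_cast
    calc (a : G)⁻¹ * b * t = (a : G)⁻¹ * (b * t * (b : G)⁻¹) * b := by group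
      _ = (a : G)⁻¹ * (a * t * (a : G)⁻¹) * b := by rw [h']
      _ = t * ((a : G)⁻¹ * b) := by group
  · rintro ⟨v, r, hr, rfl⟩
    exact ⟨⟦⟨r, hr⟩⟧, rfl⟩

variable {S : Sylow 2 G} {t : G}

namespace Coord

variable (C : Coord S t)

include C

theorem t_ne_one : t ≠ 1 := fun h => C.ne 1 (by rw [map_one, h])

theorem t_inv : t⁻¹ = t := inv_eq_of_mul_eq_one_right C.tt

theorem ι_mem_W (a : A5) : C.ι a ∈ wcl t := (C.mem_W _).2 ⟨a, Or.inl rfl⟩

theorem tι_mem_W (a : A5) : t * C.ι a ∈ wcl t := (C.mem_W _).2 ⟨a, Or.inr rfl⟩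

theorem tι_ne (a b : A5) : t * C.ι a ≠ C.ι b := fun h =>
  C.ne (b * a⁻¹) (by rw [map_mul, map_inv, ← h, mul_inv_cancel_right])

theorem tι_mul (a b : A5) : (t * C.ι a) * (t * C.ι b) = C.ι (a * b) := by
  calc (t * C.ι a) * (t * C.ι b) = t * (C.ι a * t) * C.ι b := by group
    _ = t * (t * C.ι a) * C.ι b := by rw [(C.comm a).eq]
    _ = C.ι (a * b) := by rw [← mul_assoc, C.tt, one_mul, map_mul]

theorem t_mem_V : t ∈ Vg S t := ⟨C.memS, self_mem_wcl t⟩

theorem ι_mem_V {a : A5} (ha : InV a) : C.ι a ∈ Vg S t := ⟨(C.four a).2 ha, C.ι_mem_W a⟩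

theorem tι_mem_V {a : A5} (ha : InV a) : t * C.ι a ∈ Vg S t :=
  mul_mem C.t_mem_V (C.ι_mem_V ha)

theorem mem_V {g : G} :
    g ∈ Vg S t ↔ ∃ a, InV a ∧ (g = C.ι a ∨ g = t * C.ι a) := by
  constructor
  · rintro ⟨hS, hW⟩
    obtain ⟨a, ha | ha⟩ := (C.mem_W g).1 hW
    · exact ⟨a, (C.four a).1 (ha ▸ hS), Or.inl ha⟩
    · refine ⟨a, (C.four a).1 ?_, Or.inr ha⟩
      have e : t⁻¹ * g = C.ι a := by rw [ha, inv_mul_cancel_left]
      exact e ▸ mul_mem (inv_mem C.memS) hS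
  · rintro ⟨a, ha, rfl | rfl⟩
    · exact C.ι_mem_V ha
    · exact C.tι_mem_V ha

theorem V_sq {g : G} (hg : g ∈ Vg S t) : g * g = 1 := by
  obtain ⟨a, ha, rfl | rfl⟩ := C.mem_V.1 hg
  · rw [← map_mul, inV_sq a ha, map_one]
  · rw [C.tι_mul, inV_sq a ha, map_one]

theorem V_comm {x y : G} (hx : x ∈ Vg S t) (hy : y ∈ Vg S t) : x * y = y * x := by
  have h := inv_eq_of_mul_eq_one_right (C.V_sq (mul_mem hx hy))
  rw [mul_inv_rev, inv_eq_of_mul_eq_one_right (C.V_sq hx),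
    inv_eq_of_mul_eq_one_right (C.V_sq hy)] at h
  exact h.symm

theorem V_elementary : Cfsg.IsElementaryAbelian 2 (Vg S t) :=
  ⟨⟨⟨fun a b => Subtype.ext (C.V_comm a.2 b.2)⟩⟩, fun a ha => by rw [pow_two]; exact C.V_sq ha⟩

theorem four_le_card [Finite G] : 2 ^ 2 ≤ Nat.card (Vg S t) := by
  obtain ⟨-, -, -, -, -, -, -, -, hRS⟩ := inV_rels
  let f : Fin 4 → Vg S t := ![1, ⟨t, C.t_mem_V⟩, ⟨C.ι aR, C.ι_mem_V (Or.inr (Or.inl rfl))⟩,
    ⟨t * C.ι aR, C.tι_mem_V (Or.inr (Or.inl rfl))⟩]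
  have h1 : C.ι aR ≠ 1 := fun h => aR_ne.1 (C.inj (h.trans (map_one _).symm))
  have h2 : t * C.ι aR ≠ 1 := fun h => C.tι_ne aR 1 (by rw [h, map_one])
  have h3 : t * C.ι aR ≠ t := fun h => h1 (mul_eq_left.1 h)
  have h4 : C.ι aR ≠ t := C.ne aR
  have h5 : t * C.ι aR ≠ C.ι aR := C.tι_ne aR aR
  have hf : Function.Injective f := by
    intro i j h
    have h' := congrArg Subtype.val h
    fin_cases i <;> fin_cases j <;>
      simp [f, C.t_ne_one, C.t_ne_one.symm, h1, h1.symm, h2, h2.symm, h3, h3.symm, h4, h4.symm,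
        h5, h5.symm] at h' ⊢
  simpa using Nat.card_le_card_of_injective f hf

theorem le_centralizer : (S : Subgroup G) ≤ centralizer ({t} : Set G) := fun x hx =>
  mem_centralizer_singleton_iff.2 (C.le x hx)

theorem aC_normalizes : C.ι aC ∈ normalizer (Vg S t : Set G) := by
  rw [mem_normalizer_iff]
  have key : ∀ (b : A5), (∀ a, InV a → InV (b * a * b⁻¹)) → ∀ g ∈ Vg S t,
      C.ι b * g * (C.ι b)⁻¹ ∈ Vg S t := by
    intro b hb g hg
    obtain ⟨a, ha, rfl | rfl⟩ := C.mem_V.1 hg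
    · rw [← map_inv, ← map_mul, ← map_mul]
      exact C.ι_mem_V (hb a ha)
    · have e : C.ι b * (t * C.ι a) * (C.ι b)⁻¹ = t * C.ι (b * a * b⁻¹) := by
        calc C.ι b * (t * C.ι a) * (C.ι b)⁻¹ = (C.ι b * t) * C.ι a * (C.ι b)⁻¹ := by group
          _ = (t * C.ι b) * C.ι a * (C.ι b)⁻¹ := by rw [(C.comm b).eq]
          _ = t * C.ι (b * a * b⁻¹) := by simp only [map_mul, map_inv, mul_assoc]
      rw [e]
      exact C.tι_mem_V (hb a ha)
  have h3 : aC⁻¹ = aC ^ 2 := inv_eq_of_mul_eq_one_right (by rw [← pow_succ']; exact orders.2.1)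
  refine fun g => ⟨key aC inV_aC g, fun h => ?_⟩
  have := key (aC⁻¹) (fun a ha => by
    rw [h3]
    exact inV_pow_aC a ha 2) _ h
  simpa [mul_assoc] using this

/-- The conjugate of `ι v` and `t ι v` under a power of `ι aC`. -/
theorem conj_pow_aC (v : A5) (i : ℕ) :
    C.ι aC ^ i * C.ι v * (C.ι aC ^ i)⁻¹ = C.ι (aC ^ i * v * (aC ^ i)⁻¹) ∧
    C.ι aC ^ i * (t * C.ι v) * (C.ι aC ^ i)⁻¹ = t * C.ι (aC ^ i * v * (aC ^ i)⁻¹) := by
  refine ⟨by simp, ?_⟩
  have h : Commute t (C.ι aC ^ i) := (C.comm aC).pow_right i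
  calc C.ι aC ^ i * (t * C.ι v) * (C.ι aC ^ i)⁻¹
      = (C.ι aC ^ i * t) * C.ι v * (C.ι aC ^ i)⁻¹ := by group
    _ = (t * C.ι aC ^ i) * C.ι v * (C.ι aC ^ i)⁻¹ := by rw [h.eq]
    _ = _ := by simp [mul_assoc]

/-- A subgroup normalised by `ι aC` containing `t` and another involution of `V` contains `V`. -/
theorem V_le_of_mem {U : Subgroup G} (ht : t ∈ U)
    (hU : ∀ v ∈ Vg S t, v ∈ U → C.ι aC * v * (C.ι aC)⁻¹ ∈ U)
    {x : G} (hxV : x ∈ Vg S t) (hxU : x ∈ U) (hx1 : x ≠ 1) (hxt : x ≠ t) : Vg S t ≤ U := by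
  obtain ⟨v, hv, hx⟩ := C.mem_V.1 hxV
  have hv1 : v ≠ 1 := by
    rintro rfl
    rcases hx with h | h
    · exact hx1 (h.trans (map_one _))
    · exact hxt (by rw [h, map_one, mul_one])
  have hιv : C.ι v ∈ U := by
    rcases hx with h | h
    · exact h ▸ hxU
    · have e : t⁻¹ * x = C.ι v := by rw [h, inv_mul_cancel_left]
      exact e ▸ mul_mem (inv_mem ht) hxU
  have hi : ∀ i : ℕ, C.ι aC ^ i * C.ι v * (C.ι aC ^ i)⁻¹ ∈ U ∧
      C.ι aC ^ i * C.ι v * (C.ι aC ^ i)⁻¹ ∈ Vg S t := by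
    intro i
    induction i with
    | zero => simpa using ⟨hιv, C.ι_mem_V hv⟩
    | succ i ih =>
      have e : C.ι aC ^ (i + 1) * C.ι v * (C.ι aC ^ (i + 1))⁻¹ =
          C.ι aC * (C.ι aC ^ i * C.ι v * (C.ι aC ^ i)⁻¹) * (C.ι aC)⁻¹ := by
        rw [pow_succ']; group
      rw [e]
      exact ⟨hU _ ih.2 ih.1, (mem_normalizer_iff.1 C.aC_normalizes _).1 ih.2⟩
  intro g hg
  obtain ⟨a, ha, hga⟩ := C.mem_V.1 hg
  have hιa : C.ι a ∈ U := by
    rcases eq_or_ne a 1 with rfl | ha1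
    · rw [map_one]; exact one_mem U
    · obtain ⟨i, hi'⟩ := inV_orbit v hv hv1 a ha ha1
      rw [← hi', ← (C.conj_pow_aC v i).1]
      exact (hi i).1
  rcases hga with rfl | rfl
  · exact hιa
  · exact mul_mem ht hιa

/-- Fusion in `V`: a subgroup moving `t` with an orbit of odd length fuses everything. -/
theorem full_of_orbit [Finite G] {R : Subgroup G} (hRn : R ≤ normalizer (Vg S t : Set G))
    (hC : C.ι aC ∈ R) (hodd : Odd ((centralizer ({t} : Set G)).relIndex R))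
    (hmove : ∃ r ∈ R, r * t * r⁻¹ ≠ t) :
    ∀ v ∈ Vg S t, v ≠ 1 → ∃ r ∈ R, r * t * r⁻¹ = v := by
  classical
  set D : Set G := {v | ∃ r ∈ R, r * t * r⁻¹ = v} with hD
  change ∀ v ∈ Vg S t, v ≠ 1 → v ∈ D
  have hDV : ∀ v ∈ D, v ∈ Vg S t ∧ v ≠ 1 := by
    rintro v ⟨r, hr, rfl⟩
    exact ⟨(mem_normalizer_iff.1 (hRn hr) t).1 C.t_mem_V, fun h => C.t_ne_one (conj_eq_one_iff.1 h)⟩
  have hclosed : ∀ v ∈ D, ∀ i : ℕ, C.ι aC ^ i * v * (C.ι aC ^ i)⁻¹ ∈ D := by
    rintro v ⟨r, hr, rfl⟩ i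
    exact ⟨C.ι aC ^ i * r, mul_mem (pow_mem hC i) hr, by group⟩
  have htD : t ∈ D := ⟨1, one_mem R, by group⟩
  have hRv : InV aR := Or.inr (Or.inl rfl)
  have hA : ∀ a, InV a → a ≠ 1 → (C.ι a ∈ D ↔ C.ι aR ∈ D) ∧
      (t * C.ι a ∈ D ↔ t * C.ι aR ∈ D) := by
    intro a ha ha1
    obtain ⟨i, hi⟩ := inV_orbit a ha ha1 aR hRv aR_ne.1
    obtain ⟨j, hj⟩ := inV_orbit aR hRv aR_ne.1 a ha ha1
    constructor <;> constructor <;> intro h
    · have := hclosed _ h i; rwa [(C.conj_pow_aC a i).1, hi] at this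
    · have := hclosed _ h j; rwa [(C.conj_pow_aC aR j).1, hj] at this
    · have := hclosed _ h i; rwa [(C.conj_pow_aC a i).2, hi] at this
    · have := hclosed _ h j; rwa [(C.conj_pow_aC aR j).2, hj] at this
  obtain ⟨hRR, hSS, -, -, -, -, -, -, hRS⟩ := inV_rels
  have hRne := aR_ne
  -- at least one triple
  have hone : C.ι aR ∈ D ∨ t * C.ι aR ∈ D := by
    obtain ⟨r, hr, hne⟩ := hmove
    have hv : r * t * r⁻¹ ∈ D := ⟨r, hr, rfl⟩
    obtain ⟨a, ha, h⟩ := C.mem_V.1 (hDV _ hv).1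
    have ha1 : a ≠ 1 := by
      rintro rfl
      rcases h with h | h
      · exact (hDV _ hv).2 (h.trans (map_one _))
      · exact hne (by rw [h, map_one, mul_one])
    rcases h with h | h <;> rw [h] at hv
    · exact Or.inl ((hA a ha ha1).1.1 hv)
    · exact Or.inr ((hA a ha ha1).2.1 hv)
  have hboth : C.ι aR ∈ D ∧ t * C.ι aR ∈ D := by
    by_contra hnot
    have hRS' : InV (aR * aS) := Or.inr (Or.inr (Or.inr rfl))
    have hS' : InV aS := Or.inr (Or.inr (Or.inl rfl))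
    have key : ∀ f : A5 → G, Function.Injective f → (∀ a, f a ≠ t) →
        D = {t, f aR, f aS, f (aR * aS)} → False := by
      intro f hf hft hDe
      have h4 : D.ncard = 4 := by
        rw [hDe]
        have hd : aR ≠ aR * aS := fun h => hRne.2.1 (left_eq_mul.1 h)
        have hd' : aS ≠ aR * aS := fun h => hRne.1 (right_eq_mul.1 h)
        rw [Set.ncard_insert_of_notMem, Set.ncard_insert_of_notMem, Set.ncard_insert_of_notMem,
          Set.ncard_singleton]
        · simp [hf.eq_iff, hd']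
        · simp [hf.eq_iff, hRne.2.2.1, hd]
        · simp [(hft aR).symm, (hft aS).symm, (hft (aR * aS)).symm]
      rw [← ncard_conj_eq_relIndex, ← hD, h4] at hodd
      exact absurd hodd (by decide)
    by_cases hR : C.ι aR ∈ D
    · have hT : t * C.ι aR ∉ D := fun h => hnot ⟨hR, h⟩
      refine key C.ι C.inj C.ne (Set.ext fun v => ⟨fun hv => ?_, ?_⟩)
      · obtain ⟨a, ha, h⟩ := C.mem_V.1 (hDV _ hv).1
        rcases ha with rfl | rfl | rfl | rfl <;> rcases h with rfl | rfl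
        · exact absurd (map_one _) (hDV _ hv).2
        · simp
        · simp
        · exact absurd hv hT
        · simp
        · exact absurd ((hA aS hS' hRne.2.1).2.1 hv) hT
        · simp
        · exact absurd ((hA _ hRS' hRS).2.1 hv) hT
      · rintro (rfl | rfl | rfl | rfl)
        · exact htD
        · exact hR
        · exact (hA aS hS' hRne.2.1).1.2 hR
        · exact (hA _ hRS' hRS).1.2 hR
    · have hT : t * C.ι aR ∈ D := hone.resolve_left hR
      refine key (fun a => if a = 1 then C.ι 1 else t * C.ι a) ?_ ?_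
        (Set.ext fun v => ⟨fun hv => ?_, ?_⟩)
      · intro a b h
        simp only at h
        split_ifs at h with h1 h2
        · rw [h1, h2]
        · exact absurd h.symm (C.tι_ne _ _)
        · exact absurd h (C.tι_ne _ _)
        · exact C.inj (mul_left_cancel h)
      · intro a
        show (if a = 1 then C.ι 1 else t * C.ι a) ≠ t
        split_ifs with h1
        · exact C.ne 1
        · intro h
          exact h1 (C.inj ((mul_eq_left.1 h).trans (map_one _).symm))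
      · obtain ⟨a, ha, h⟩ := C.mem_V.1 (hDV _ hv).1
        rcases ha with rfl | rfl | rfl | rfl <;> rcases h with rfl | rfl
        · exact absurd (map_one _) (hDV _ hv).2
        · simp
        · exact absurd hv hR
        · simp [hRne.1]
        · exact absurd ((hA aS hS' hRne.2.1).1.1 hv) hR
        · simp [hRne.2.1]
        · exact absurd ((hA _ hRS' hRS).1.1 hv) hR
        · simp [hRS]
      · rintro (rfl | rfl | rfl | rfl)
        · exact htD
        · simp only [if_neg hRne.1]; exact hT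
        · simp only [if_neg hRne.2.1]; exact (hA aS hS' hRne.2.1).2.2 hT
        · simp only [if_neg hRS]; exact (hA _ hRS' hRS).2.2 hT
  intro v hv hv1
  obtain ⟨a, ha, h⟩ := C.mem_V.1 hv
  rcases eq_or_ne a 1 with rfl | ha1
  · rcases h with rfl | rfl
    · exact absurd (map_one _) hv1
    · rw [map_one, mul_one]; exact htD
  · rcases h with rfl | rfl
    · exact (hA a ha ha1).1.2 hboth.1
    · exact (hA a ha ha1).2.2 hboth.2

end Coord

end Cfsg.Agent.TwoWeak
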