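import Cfsg.Agent.TwoWeak.Closure

/-!
Reductions: to the normal closure of `t`, modulo the odd core, and the shape of `C(t)` when the
normal closure of `t` is the whole group.
-/

set_option autoImplicit false

namespace Cfsg.Agent.TwoWeak

open Subgroup
open Cfsg.Agent.J1Unique
open scoped commutatorElement IsMulCommutative

variable {G : Type*} [Group G] [Finite G] {t : G}

/-- The hypothesis holds in the normal closure, which is then the closure of the class. -/
theorem reduce (h : Hyp t) :
    ∃ t' : ↥(normalClosure ({t} : Set G)), (t' : G) = t ∧ Hyp t' ∧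
      normalClosure ({t'} : Set ↥(normalClosure ({t} : Set G))) = ⊤ ∧
      (wcl t').map (normalClosure ({t} : Set G)).subtype = wcl t := by
  obtain ⟨S, ⟨C⟩⟩ := exists_coord h
  set N := normalClosure ({t} : Set G) with hN
  haveI : N.Normal := normalClosure_normal
  have htN : t ∈ N := subset_normalClosure rfl
  have hodd : Odd ((S : Subgroup G).relIndex N) := ProdFusion.odd_relIndex_of_normal S N
  obtain ⟨h1, h2⟩ := C.hyp_subgroup h hodd C.wcl_le_normalClosure C.fused_normalClosure htN
  refine ⟨⟨t, htN⟩, rfl, h1, ?_, h2⟩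
  rw [eq_top_iff]
  intro x _
  have hle : N ≤ (normalClosure ({⟨t, htN⟩} : Set N)).map N.subtype := by
    refine (closure_le (k := Group.conjugatesOfSet ({t} : Set G)) _).2 ?_
    intro y hy
    obtain ⟨z, hz, hzy⟩ := Group.mem_conjugatesOfSet_iff.1 hy
    rw [Set.mem_singleton_iff] at hz
    obtain ⟨g, hg⟩ := isConj_iff.1 (hz ▸ hzy)
    have hgN : g * t * g⁻¹ ∈ N := (inferInstance : N.Normal).conj_mem t htN g
    obtain ⟨m, hm, e⟩ := C.conj_in_subgroup hodd C.fused_normalClosure hgN
    refine ⟨⟨m, hm⟩ * ⟨t, htN⟩ * ⟨m, hm⟩⁻¹,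
      normalClosure_normal.conj_mem _ (subset_normalClosure (Set.mem_singleton _)) _, ?_⟩
    rw [← hg, ← e]
    rfl
  obtain ⟨y, hy, hyx⟩ := hle x.2
  rwa [← Subtype.ext hyx]

section Top

variable (htop : normalClosure ({t} : Set G) = ⊤)

include htop

theorem Coord.sylow_eq {S : Sylow 2 G} (C : Coord S t) : (S : Subgroup G) = Vg S t := by
  have := C.inf_normalClosure
  rwa [htop, inf_top_eq] at this

/-- All involutions are conjugate. -/
theorem conj_of_involution (h : Hyp t) {x : G} (hx : x * x = 1) (hx1 : x ≠ 1) :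
    ∃ g : G, g * t * g⁻¹ = x := by
  haveI : Fact (Nat.Prime 2) := ⟨Nat.prime_two⟩
  obtain ⟨S, ⟨C⟩⟩ := exists_coord h
  obtain ⟨Q, hQ⟩ := (isPGroup_zpowers_two hx).exists_le_sylow
  obtain ⟨m, hm⟩ := MulAction.exists_smul_eq G Q S
  have h1 : m * x * m⁻¹ ∈ Vg S t := by
    rw [← C.sylow_eq htop, ← hm, Sylow.coe_subgroup_smul,
      Subgroup.mem_pointwise_smul_iff_inv_smul_mem]
    simpa [mul_assoc] using hQ (mem_zpowers x)
  obtain ⟨n, -, hn⟩ := C.fused _ h1 fun e => hx1 (conj_eq_one_iff.1 e)
  refine ⟨m⁻¹ * n, ?_⟩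
  calc m⁻¹ * n * t * (m⁻¹ * n)⁻¹ = m⁻¹ * (n * t * n⁻¹) * m := by group
    _ = x := by rw [hn]; group

/-- The odd core is central. -/
theorem core_le_center (h : Hyp t) : Cfsg.pPrimeCore 2 G ≤ center G := by
  obtain ⟨S, ⟨C⟩⟩ := exists_coord h
  have hc := C.normalClosure_le_centralizer_core
  rw [htop] at hc
  exact fun o ho => mem_center_iff.2 fun g => (mem_centralizer_iff.1 (hc (mem_top g)) o ho).symm

theorem commutator_top (h : Hyp t) : ⁅(⊤ : Subgroup G), (⊤ : Subgroup G)⁆ = ⊤ := by
  obtain ⟨S, ⟨C⟩⟩ := exists_coord h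
  have := C.commutator_normalClosure
  rwa [htop] at this

/-- The hypothesis passes to the quotient by the odd core. -/
theorem quotient_step (h : Hyp t) :
    Hyp (QuotientGroup.mk' (Cfsg.pPrimeCore 2 G) t) ∧
      normalClosure ({QuotientGroup.mk' (Cfsg.pPrimeCore 2 G) t} :
        Set (G ⧸ Cfsg.pPrimeCore 2 G)) = ⊤ := by
  haveI : Fact (Nat.Prime 2) := ⟨Nat.prime_two⟩
  obtain ⟨S, ⟨C⟩⟩ := exists_coord h
  set O := Cfsg.pPrimeCore 2 G with hO
  set π := QuotientGroup.mk' O with hπ
  have hsur : Function.Surjective π := QuotientGroup.mk'_surjective O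
  have hOodd : Odd (Nat.card O) := Nat.coprime_two_right.1 Cores.pPrimeCore_coprime
  have hπ1 : ∀ x, π x = 1 ↔ x ∈ O := fun x => QuotientGroup.eq_one_iff x
  have hinv : ∀ o ∈ O, o * o = 1 → o = 1 := fun o ho h2 => by
    have h1 : o ^ Nat.card O = 1 := congrArg Subtype.val (pow_card_eq_one' (x := (⟨o, ho⟩ : O)))
    rwa [pow_odd_eq_self h2 hOodd] at h1
  refine ⟨⟨?_, ⟨S.mapSurjective hsur, ⟨t, C.memS, rfl⟩, ?_⟩, ?_⟩, ?_⟩
  · refine orderOf_eq_prime (by rw [pow_two, ← map_mul, C.tt, map_one]) fun e => ?_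
    exact C.t_ne_one (hinv t ((hπ1 t).1 e) C.tt)
  · rintro _ ⟨s, hs, rfl⟩
    rw [← map_mul, ← map_mul, C.le s hs]
  · have hmap : (wcl t).map π = wcl (π t) := by
      refine le_antisymm ?_ ?_
      · rw [wcl, MonoidHom.map_closure, closure_le]
        rintro _ ⟨x, ⟨g, rfl, hx⟩, rfl⟩
        rw [map_mul, map_mul, map_inv]
        refine conj_mem_wcl ?_
        rw [← map_inv, ← map_mul, ← map_mul, ← map_mul, ← map_mul, hx]
      · rw [wcl, closure_le]
        rintro _ ⟨q, rfl, hq⟩
        obtain ⟨g, rfl⟩ := hsur q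
        set x := g * t * g⁻¹ with hx
        have hxx : x * x = 1 := by
          calc x * x = g * (t * t) * g⁻¹ := by rw [hx]; group
            _ = 1 := by rw [C.tt, mul_one, mul_inv_cancel]
        set o := (x * t)⁻¹ * (t * x) with ho
        have hoO : o ∈ O := by
          rw [← hπ1, ho, map_mul, map_inv, inv_mul_eq_one, map_mul, map_mul]
          simpa [hx] using hq
        have hoc : ∀ y : G, y * o = o * y := fun y => mem_center_iff.1 (core_le_center htop h hoO) y
        have he : t * x = x * t * o := by rw [ho, mul_inv_cancel_left]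
        have h1 : t * x * t = x * o := by
          calc t * x * t = x * (t * o * t) := by rw [he]; group
            _ = x * (o * t * t) := by rw [hoc t]
            _ = x * o := by rw [mul_assoc o, C.tt, mul_one]
        have ho1 : o = 1 := hinv o hoO (by
          have h2 : x = x * o * o := by
            calc x = (t * t) * x * (t * t) := by rw [C.tt, one_mul, mul_one]
              _ = t * (t * x * t) * t := by group
              _ = t * x * (o * t) := by rw [h1]; group
              _ = t * x * t * o := by rw [← hoc t]; group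
              _ = x * o * o := by rw [h1]
          rw [mul_assoc] at h2
          exact (mul_eq_left.1 h2.symm))
        refine ⟨x, conj_mem_wcl ?_, ?_⟩
        · show x * t = t * x
          rw [he, ho1, mul_one]
        · simp [hx]
    have hinj : Function.Injective (π.comp (wcl t).subtype) := by
      rw [injective_iff_map_eq_one]
      rintro ⟨w, hw⟩ e
      have hwO : w ∈ O := (hπ1 w).1 e
      obtain ⟨a, ha | ha⟩ := (C.mem_W w).1 hw
      · refine Subtype.ext (show w = 1 from ?_)
        have hc : ∀ b, a * b = b * a := fun b => C.inj (by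
          rw [map_mul, map_mul, ← ha]
          exact (mem_center_iff.1 (core_le_center htop h hwO) _).symm)
        rw [ha, eq_one_of_commute a (hc _) (hc _), map_one]
      · refine Subtype.ext (show w = 1 from ?_)
        have hc : ∀ b, a * b = b * a := fun b => C.inj (by
          rw [map_mul, map_mul]
          have h1 := (mem_center_iff.1 (core_le_center htop h hwO) (C.ι b)).symm
          have h2 : C.ι a = t⁻¹ * w := by rw [ha, inv_mul_cancel_left]
          rw [h2]
          exact (((C.comm b).inv_left).mul_left (show Commute w (C.ι b) from h1)).eq)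
        exact hinv w hwO (by rw [ha, C.tι_mul, eq_one_of_commute a (hc _) (hc _), mul_one,
          map_one])
    obtain ⟨e⟩ := h.iso
    have e1 : ↥(wcl t) ≃* ↥(π.comp (wcl t).subtype).range := MonoidHom.ofInjective hinj
    have e2 : (π.comp (wcl t).subtype).range = wcl (π t) := by
      rw [MonoidHom.range_comp, range_subtype, hmap]
    exact ⟨((MulEquiv.subgroupCongr e2).symm.trans e1.symm).trans e⟩
  · rw [← Set.image_singleton, ← map_normalClosure _ _ hsur, htop, map_top_of_surjective π hsur]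

/-- A perfect central extension of odd degree of a group of order 175560 is trivial. -/
theorem core_eq_bot_of_card (h : Hyp t)
    (hcard : Nat.card (G ⧸ Cfsg.pPrimeCore 2 G) = 175560) : Cfsg.pPrimeCore 2 G = ⊥ := by
  classical
  set O := Cfsg.pPrimeCore 2 G with hO
  have hperf := commutator_top htop h
  by_contra hne
  obtain ⟨p, hp, hpd⟩ := Nat.exists_prime_and_dvd (Subgroup.one_lt_card_iff_ne_bot O |>.2 hne).ne'
  haveI : Fact p.Prime := ⟨hp⟩
  haveI : Fact (Nat.Prime 2) := ⟨Nat.prime_two⟩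
  have hp2 : p ≠ 2 := by
    rintro rfl
    exact Cores.not_dvd_card_pPrimeCore hpd
  obtain ⟨⟨z, hzO⟩, hz⟩ := exists_prime_orderOf_dvd_card' p hpd
  rw [Subgroup.orderOf_mk] at hz
  have hzc : z ∈ center G := core_le_center htop h hzO
  have hzp : IsPGroup p (zpowers z) :=
    IsPGroup.of_card (n := 1) (by rw [Nat.card_zpowers, hz, pow_one])
  obtain ⟨P, hP⟩ := hzp.exists_le_sylow
  set f : ↥(P : Subgroup G) →* G ⧸ O := (QuotientGroup.mk' O).comp (P : Subgroup G).subtype
  have hker : f.ker ≤ center ↥(P : Subgroup G) := fun x hx => mem_center_iff.2 fun y =>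
    Subtype.ext (mem_center_iff.1
      (core_le_center htop h ((QuotientGroup.eq_one_iff _).1 hx)) (y : G))
  have hcyc : IsCyclic f.range := by
    obtain ⟨k, hk⟩ := ((P.2.map (QuotientGroup.mk' O)).to_le
      (show f.range ≤ (P : Subgroup G).map (QuotientGroup.mk' O) by
        rw [MonoidHom.range_comp, range_subtype])).exists_card_eq
    have hdvd := card_subgroup_dvd_card f.range
    rw [hcard, hk] at hdvd
    rcases k with _ | _ | k
    · rw [pow_zero] at hk
      haveI : Subsingleton f.range := (Nat.card_eq_one_iff_unique.1 hk).1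
      infer_instance
    · exact isCyclic_of_prime_card (p := p) (by rw [hk, zero_add, pow_one])
    · exfalso
      have h2 : p ^ 2 ∣ 175560 := (pow_dvd_pow p (by omega : 2 ≤ k + 2)).trans hdvd
      have h3 : p ≤ 419 := by
        by_contra hc
        have := Nat.le_of_dvd (by norm_num) h2
        nlinarith
      have key : ∀ q < 420, q ^ 2 ∣ 175560 → q = 1 ∨ q = 2 := by decide +kernel
      rcases key p (by omega) h2 with h4 | h4
      · exact hp.ne_one h4
      · exact hp2 h4
  have hPc : ∀ a b : ↥(P : Subgroup G), a * b = b * a :=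
    commutative_of_cyclic_center_quotient f.rangeRestrict (by rwa [MonoidHom.ker_rangeRestrict])
  haveI : IsMulCommutative ↥(P : Subgroup G) := ⟨⟨hPc⟩⟩
  set τ := MonoidHom.transfer (MonoidHom.id ↥(P : Subgroup G)) with hτ
  have hle : (⊤ : Subgroup G) ≤ τ.ker := by
    rw [← hperf, commutator_le]
    intro a _ b _
    rw [MonoidHom.mem_ker, map_commutatorElement, commutatorElement_eq_one_iff_mul_comm]
    exact mul_comm _ _
  have h1 : τ z = 1 := hle (mem_top z)
  rw [hτ, MonoidHom.transfer_eq_pow (MonoidHom.id ↥(P : Subgroup G)) z fun k g₀ _ => by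
    rw [mul_assoc, ← mem_center_iff.1 (pow_mem hzc k) g₀, inv_mul_cancel_left]] at h1
  have h2 : z ^ (P : Subgroup G).index = 1 := congrArg Subtype.val h1
  have h3 := orderOf_dvd_of_pow_eq_one h2
  rw [hz] at h3
  exact P.not_dvd_index h3

/-- With trivial odd core the group is simple. -/
theorem isSimple_of_core (h : Hyp t) (hO : Cfsg.pPrimeCore 2 G = ⊥) : IsSimpleGroup G := by
  haveI : Fact (Nat.Prime 2) := ⟨Nat.prime_two⟩
  have ht1 : t ≠ 1 := fun e => by
    have := h.ord; rw [e, orderOf_one] at this; exact absurd this (by decide)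
  haveI : Nontrivial G := ⟨t, 1, ht1⟩
  refine ⟨fun M hM => ?_⟩
  by_cases h2 : 2 ∣ Nat.card M
  · right
    obtain ⟨⟨x, hxM⟩, hx⟩ := exists_prime_orderOf_dvd_card' 2 h2
    rw [Subgroup.orderOf_mk] at hx
    obtain ⟨g, hg⟩ := conj_of_involution htop h (x := x)
      (by rw [← pow_two, ← hx, pow_orderOf_eq_one])
      (fun e => by rw [e, orderOf_one] at hx; exact absurd hx (by decide))
    have htM : t ∈ M := by
      have := hM.conj_mem x hxM g⁻¹
      rw [← hg] at this
      simpa [mul_assoc] using this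
    rw [eq_top_iff, ← htop]
    exact normalClosure_le_normal (Set.singleton_subset_iff.2 htM)
  · left
    have := Cores.le_pPrimeCore_of_not_dvd hM h2
    rw [hO] at this
    exact le_bot_iff.1 this

/-- The centraliser of `t` is `W × K` with `K` of odd order. -/
theorem centralizer_eq {S : Sylow 2 G} (C : Coord S t) :
    ∃ K : Subgroup G, K ≤ centralizer (Vg S t : Set G) ∧ K ⊓ Vg S t = ⊥ ∧
      (∀ n ∈ normalizer (Vg S t : Set G), ∀ x ∈ K, n * x * n⁻¹ ∈ K) ∧
      K ≤ centralizer (wcl t : Set G) ∧ Odd (Nat.card K) ∧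
      ∀ c, c * t = t * c → ∃ w ∈ wcl t, ∃ k ∈ K, c = w * k := by
  haveI : Fact (Nat.Prime 2) := ⟨Nat.prime_two⟩
  obtain ⟨K, hKC, hKn, hKV, hVK⟩ := C.complement
  have hSV : (S : Subgroup G) = Vg S t := C.sylow_eq htop
  set CV := centralizer (Vg S t : Set G) with hCV
  set NV := normalizer (Vg S t : Set G) with hNV
  have hCN : CV ≤ NV := centralizer_le_normalizer _
  have hKodd : Odd (Nat.card K) := by
    rw [← Nat.not_even_iff_odd, even_iff_two_dvd]
    intro h2
    obtain ⟨⟨k, hkK⟩, hk⟩ := exists_prime_orderOf_dvd_card' 2 h2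
    rw [Subgroup.orderOf_mk] at hk
    have hk2 : (⟨k, hKC hkK⟩ : CV) * ⟨k, hKC hkK⟩ = 1 :=
      Subtype.ext (show k * k = 1 by rw [← pow_two, ← hk, pow_orderOf_eq_one])
    obtain ⟨Q, hQ⟩ := (isPGroup_zpowers_two hk2).exists_le_sylow
    obtain ⟨c, hc⟩ := MulAction.exists_smul_eq CV Q (S.subtype C.le_centralizer_V)
    have h1 : c * ⟨k, hKC hkK⟩ * c⁻¹ ∈
        ((S.subtype C.le_centralizer_V : Sylow 2 CV) : Subgroup CV) := by
      rw [← hc, Sylow.coe_subgroup_smul, Subgroup.mem_pointwise_smul_iff_inv_smul_mem]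
      simpa [mul_assoc] using hQ (mem_zpowers _)
    have h1' : (c : G) * k * (c : G)⁻¹ ∈ (S : Subgroup G) := h1
    rw [hSV] at h1'
    have h3 : (c : G) * k * (c : G)⁻¹ = 1 := mem_bot.1 (hKV ▸ ⟨hKn c (hCN c.2) k hkK, h1'⟩)
    rw [conj_eq_one_iff.1 h3, orderOf_one] at hk
    exact absurd hk (by decide)
  have hKt : ∀ k ∈ K, k * t = t * k := fun k hk =>
    (mem_centralizer_iff.1 (hKC hk) t C.t_mem_V).symm
  have hKW : K ≤ centralizer (wcl t : Set G) := by
    intro k hk
    obtain ⟨p, hp⟩ := C.exists_perm (hKt k hk)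
    have hfix : ∀ u, InV u → tw p u = u := fun u hu => C.inj (by
      rw [← hp, ← mem_centralizer_iff.1 (hKC hk) _ (C.ι_mem_V hu), mul_inv_cancel_right])
    have hpp := sq_eq_one_of_fix p (hfix _ (Or.inr (Or.inl rfl)))
      (hfix _ (Or.inr (Or.inr (Or.inl rfl))))
    have hpow : p ^ Nat.card K = 1 := C.perm_one fun a => by
      have hk1 : k ^ Nat.card K = 1 := congrArg Subtype.val (pow_card_eq_one' (x := (⟨k, hk⟩ : K)))
      rw [← C.perm_pow hp, hk1, one_mul, inv_one, mul_one]
    rw [pow_odd_eq_self hpp hKodd] at hpow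
    subst hpow
    have hι : ∀ a, Commute k (C.ι a) := fun a => by
      have := hp a
      rw [tw_one, MulAut.one_apply] at this
      exact mul_inv_eq_iff_eq_mul.1 this
    refine mem_centralizer_iff.2 fun w hw => ?_
    obtain ⟨a, rfl | rfl⟩ := (C.mem_W w).1 hw
    · exact (hι a).eq.symm
    · exact ((show Commute k t from hKt k hk).mul_right (hι a)).eq.symm
  refine ⟨K, hKC, hKV, hKn, hKW, hKodd, fun c hc => ?_⟩
  -- move `c` into the normaliser of `V`
  set W := wcl t
  have hVW : Vg S t ≤ W := inf_le_right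
  set V' := (Vg S t).map (MulAut.conj c).toMonoidHom with hV'
  have hV'W : V' ≤ W := by
    rintro _ ⟨v, hv, rfl⟩
    exact conj_wcl_of_commute hc (hVW hv)
  have hoddW : Odd ((S : Subgroup G).relIndex W) := by
    set CT := centralizer ({t} : Set G) with hCT
    haveI : (W.subgroupOf CT).Normal := ⟨fun x hx y => by
      rw [mem_subgroupOf] at hx ⊢
      exact conj_wcl_of_commute (mem_centralizer_singleton_iff.1 y.2) hx⟩
    have := ProdFusion.odd_relIndex_of_normal (S.subtype C.le_centralizer) (W.subgroupOf CT)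
    rwa [show ((S.subtype C.le_centralizer : Sylow 2 CT) : Subgroup CT) =
      (S : Subgroup G).subgroupOf CT from rfl, relIndex_subgroupOf (wcl_le_centralizer t)] at this
  have hPp : IsPGroup 2 ((S : Subgroup G).subgroupOf W) := S.isPGroup'.comap_subtype
  let PS : Sylow 2 W := hPp.toSylow (by
    rw [← even_iff_two_dvd, Nat.not_even_iff_odd]; exact hoddW)
  obtain ⟨Q, hQ⟩ := ((C.V_isPGroup.map (MulAut.conj c).toMonoidHom).of_equiv
    (subgroupOfEquivOfLe hV'W).symm).exists_le_sylow
  obtain ⟨w, hw⟩ := MulAction.exists_smul_eq W Q PS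
  set n := (w : G) * c with hn'
  have hn : n ∈ NV := C.normalizes_of_le fun v hv => by
    have hm : c * v * c⁻¹ ∈ V' := ⟨v, hv, by simp⟩
    have h1 : w * ⟨c * v * c⁻¹, hV'W hm⟩ * w⁻¹ ∈ (PS : Subgroup W) := by
      rw [← hw, Sylow.coe_subgroup_smul, Subgroup.mem_pointwise_smul_iff_inv_smul_mem]
      simpa [mul_assoc] using hQ (show (⟨_, hV'W hm⟩ : W) ∈ V'.subgroupOf W from hm)
    have h2 : ((w * ⟨c * v * c⁻¹, hV'W hm⟩ * w⁻¹ : W) : G) ∈ (S : Subgroup G) := h1
    rw [← hSV]
    simpa [hn', mul_assoc] using h2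
  have hnt : n * t = t * n :=
    ((show Commute (w : G) t from mem_centralizer_singleton_iff.1
      (wcl_le_centralizer t w.2)).mul_left hc).eq
  -- elements of `C(t) ∩ N(V)` fixing the four group centralise `V`
  have hfixCV : ∀ m, m * t = t * m → ∀ p : Equiv.Perm (Fin 5),
      (∀ a, m * C.ι a * m⁻¹ = C.ι (tw p a)) → tw p aR = aR → tw p aS = aS → m ∈ CV := by
    intro m hm p hp hR hS
    refine mem_centralizer_iff.2 fun v hv => ?_
    obtain ⟨a, ha, h⟩ := C.mem_V.1 hv
    have h1 : Commute m (C.ι a) := by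
      have := hp a
      rw [tw_fix_inV hR hS a ha] at this
      exact mul_inv_eq_iff_eq_mul.1 this
    rcases h with rfl | rfl
    · exact h1.eq.symm
    · exact ((show Commute m t from hm).mul_right h1).eq.symm
  obtain ⟨p, hp⟩ := C.exists_perm hnt
  have hpV := C.perm_inV hn hp
  obtain ⟨i, hi⟩ : ∃ i : ℕ, (C.ι (aC ^ i))⁻¹ * n ∈ CV := by
    rcases three_case p (hpV _ (Or.inr (Or.inl rfl))) (hpV _ (Or.inr (Or.inr (Or.inl rfl))))
      with ⟨i, hR, hS⟩ | ⟨hR, hS⟩
    · refine ⟨i, ?_⟩
      set b : A5 := aC ^ (i : ℕ)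
      obtain ⟨q, hq⟩ := C.exists_perm (c := (C.ι b)⁻¹ * n)
        ((((C.comm b).symm.inv_left).mul_left (show Commute n t from hnt)).eq)
      have key : ∀ a, tw q a = b⁻¹ * tw p a * b := fun a => C.inj (by
        rw [← hq, map_mul, map_mul, map_inv, ← hp]; group)
      refine hfixCV _ ((((C.comm b).symm.inv_left).mul_left (show Commute n t from hnt)).eq) q hq ?_ ?_
      · rw [key, hR]; group
      · rw [key, hS]; group
    · refine ⟨0, ?_⟩
      haveI : (CV.subgroupOf NV).Normal := ⟨fun x hx y => by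
        rw [mem_subgroupOf] at hx ⊢
        refine mem_centralizer_iff.2 fun v hv => ?_
        have hv' := (mem_normalizer_iff.1 (inv_mem y.2) v).1 hv
        have h := mem_centralizer_iff.1 hx _ hv'
        rw [inv_inv] at h
        push_cast
        calc v * ((y : G) * x * (y : G)⁻¹) =
              y * ((y : G)⁻¹ * v * y * x) * (y : G)⁻¹ := by group
          _ = y * ((x : G) * ((y : G)⁻¹ * v * y)) * (y : G)⁻¹ := by rw [h]
          _ = (y : G) * x * (y : G)⁻¹ * v := by group⟩
      set m := (CV.subgroupOf NV).index with hm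
      have hmodd : Odd m := by
        rw [hm]
        show Odd (CV.relIndex NV)
        have h2 := relIndex_mul_index (inf_le_right : CV ⊓ NV ≤ NV)
        rw [inf_relIndex_right] at h2
        refine Odd.of_dvd_nat ?_ ((Dvd.intro _ h2).trans
          (index_dvd_of_le (le_inf C.le_centralizer_V C.sylow_normalizes)))
        rw [← Nat.not_even_iff_odd, even_iff_two_dvd]
        exact S.not_dvd_index
      have hnm : n ^ m ∈ CV := (CV.subgroupOf NV).pow_index_mem ⟨n, hn⟩
      have hfixm : ∀ u, InV u → tw (p ^ m) u = u := fun u hu => C.inj (by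
        rw [← C.perm_pow hp, ← mem_centralizer_iff.1 hnm _ (C.ι_mem_V hu), mul_inv_cancel_right])
      obtain ⟨j, hj⟩ := hmodd
      have hiter : ∀ u, tw p (tw p u) = u → tw (p ^ m) u = tw p u := by
        intro u hu
        have : ∀ j : ℕ, tw (p ^ (2 * j)) u = u := by
          intro j
          induction j with
          | zero => simp [tw]
          | succ j ih => rw [Nat.mul_succ, pow_add, tw_mul, pow_two, tw_mul, hu, ih]
        rw [hj, pow_succ', tw_mul, this]
      rw [pow_zero, map_one, inv_one, one_mul]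
      refine hfixCV n hnt p hp ?_ ?_
      · rw [← hiter aR hR]; exact hfixm _ (Or.inr (Or.inl rfl))
      · rw [← hiter aS hS]; exact hfixm _ (Or.inr (Or.inr (Or.inl rfl)))
  obtain ⟨v, hv, k, hk, e⟩ := hVK _ hi
  refine ⟨(w : G)⁻¹ * C.ι (aC ^ i) * v, mul_mem (mul_mem (inv_mem w.2) (C.ι_mem_W _)) (hVW hv),
    k, hk, ?_⟩
  calc c = (w : G)⁻¹ * C.ι (aC ^ i) * ((C.ι (aC ^ i))⁻¹ * n) := by rw [hn']; group
    _ = _ := by rw [e]; group

end Top

end Cfsg.Agent.TwoWeak
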